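import Cfsg.Agent.Lib.SolvableSignalizer.ThreePrimes.EdgeFour

/-!
An edge into a terminal prime is impossible when there are exactly three primes.
-/

set_option autoImplicit false
set_option linter.style.haveILetI false
set_option linter.unusedSectionVars false

namespace Cfsg.Agent.SolvableSignalizer

open Subgroup
open Cfsg.Agent.Components
open scoped Pointwise

universe u

variable {G : Type u} [Group G] [Finite G] {r : ℕ} {A : Subgroup G} {θ : G → Subgroup G}
  {L : ℕ → Subgroup G}

namespace EdgeData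

variable (h : Minimal r A θ) (F : Family r A θ L) {u w : ℕ} {E H : Subgroup G}
  (D : EdgeData r A θ L u w E H) {v : ℕ} (hv : InPi r A θ v) (hvu : v ≠ u) (hvw : v ≠ w)
  (hall : ∀ q, InPi r A θ q → q = u ∨ q = v ∨ q = w)
include h F D hv hvu hvw hall

lemma inFit_third : InFit v (L w) ∧ InFit v (L u) :=
  ⟨F.inFit_of_terminal h D.term hv hvw,
    F.inFit_tail h D.edge (F.inFit_of_terminal h D.term hv hvw) hvu⟩

lemma pure_tail (hw : ¬ InFit w (L u)) : Pure v (L u) :=
  ⟨(D.inFit_third h F hv hvu hvw hall).2, fun q hq => by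
    rcases hall q ⟨L u, F.node u D.edge.tail, hq⟩ with rfl | rfl | rfl
    · exact absurd hq (F.not_inFit_self h D.edge.tail)
    · rfl
    · exact absurd hq hw⟩

lemma special_of_third {e : G} (he : e ∈ E) (he1 : e ≠ 1) {K : Subgroup G} (hK : IsNode r A θ K)
    (hKθ : θ e ≤ K) (hvK : InFit v K) : Cfsg.pCoreOf u (L w) ⊓ centralizer {e} = ⊥ := by
  refine le_bot_iff.mp (le_trans (le_inf inf_le_left (inf_centralizer_le_colour
    ((F.node w D.edge.head).isXA.pCoreOf u).mem (D.plane.le he) he1 hKθ)) (le_of_eq ?_))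
  have huK : ¬ InFit u K := fun huK => by
    obtain ⟨s, hs, hsK⟩ := F.exists_missing h hK
    obtain rfl : s = w := by
      rcases hall s hs with rfl | rfl | rfl
      · exact absurd huK hsK
      · exact absurd hvK hsK
      · rfl
    refine D.colour_ne h F he he1 hKθ (F.eq_L h hK hs hsK fun q hq hqs => ?_)
    rcases hall q hq with rfl | rfl | rfl
    · exact huK
    · exact hvK
    · exact absurd rfl hqs
  by_cases hwK : InFit w K
  · rw [F.eq_L h hK D.edge.tail huK fun q hq hqu => by
      rcases hall q hq with rfl | rfl | rfl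
      · exact absurd rfl hqu
      · exact hvK
      · exact hwK]
    exact D.inf_head_eq_bot h F
  · exact F.t_lemma h hK D.edge.tail.prime huK D.edge.head inf_le_left inf_le_right (Or.inl hwK)

lemma exists_fpf_line : ∃ e ∈ E, e ≠ 1 ∧ Cfsg.pCoreOf u (L w) ⊓ centralizer {e} = ⊥ := by
  obtain ⟨hvw', hvu'⟩ := D.inFit_third h F hv hvu hvw hall
  set U := Cfsg.pCoreOf v (L w) ⊓ Cfsg.pCoreOf v (L u)
  have hU : IsXA r A θ U :=
    ((F.node w D.edge.head).isXA.pCoreOf v).inf ((F.node u D.edge.tail).isXA.pCoreOf v).norm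
  obtain ⟨e, he, he1, hne⟩ :=
    h.exists_fixed_of_plane D.plane hU.mem (F.inf_ne_bot h D.edge hvw' hvu')
  obtain ⟨K, hK, hKθ⟩ := h.exists_colour (D.plane.le he) he1
  exact ⟨e, he, he1, D.special_of_third h F hv hvu hvw hall he he1 hK hKθ
    (D.inFit_piece h F hv.prime hne (inf_le_left.trans inf_le_right) (inf_le_left.trans inf_le_left)
      hK (inf_centralizer_le_colour hU.mem (D.plane.le he) he1 hKθ))⟩

lemma centralizes_tail_core (hv2 : v ≠ 2) {e : G} (he : e ∈ E) (hspec : Special L u w e) :
    Cfsg.pCoreOf v (L u) ≤ centralizer ({e} : Set G) := by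
  obtain ⟨hvw', hvu'⟩ := D.inFit_third h F hv hvu hvw hall
  refine D.centralizes_piece h F hv hvu he hspec ((F.node u D.edge.tail).isXA.pCoreOf v) le_rfl
    ((D.H_le_tail h F).trans (le_normalizer_pCoreOf v (L u))) ?_ (Or.inl hv2)
  rw [inf_comm]
  exact F.inf_ne_bot h D.edge hvw' hvu'

lemma faithful_third (hnv : ¬ Edge r A θ L v w) :
    Cfsg.pCoreOf w (L v) ⊓ centralizer ((Cfsg.pCoreOf v (L u) : Subgroup G) : Set G) = ⊥ := by
  by_cases hw : InFit w (L u)
  · have hterm : Terminal r A θ L v := ⟨hv, fun z ez => by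
      rcases hall z ez.head with rfl | rfl | rfl
      · exact (F.path_missing h ez D.edge).2 hw
      · exact ez.ne rfl
      · exact hnv ez⟩
    exact F.faithful h D.edge.tail D.edge.head hterm hvu hvw D.edge.ne
      fun e' => hvw (F.out_unique h e' D.edge)
  · exact inf_centralizer_fitOf_eq_bot (F.node u D.edge.tail).mem.1
      (D.pure_tail h F hv hvu hvw hall hw) D.edge.head.prime hvw.symm (pCoreOf_isPGroup w (L v))
      (F.pCore_le h (F.node v hv).isXA D.edge.tail D.edge.head.prime D.edge.ne.symm)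

lemma two_of_no_edge (hnv : ¬ Edge r A θ L v w) : v = 2 := by
  by_contra hv2
  haveI := h.fact
  haveI := Fact.mk hv.prime
  haveI := Fact.mk D.edge.tail.prime
  obtain ⟨e, he, he1, hfpf⟩ := D.exists_fpf_line h F hv hvu hvw hall
  have heA := D.plane.le he
  set R := Cfsg.pCoreOf v (L u)
  set Q := Cfsg.pCoreOf w (L v)
  set A0 := Cfsg.pCoreOf u (L w)
  have hRe := D.centralizes_tail_core h F hv hvu hvw hall hv2 he (Or.inl hfpf)
  have hQX := (F.node v hv).isXA.pCoreOf w
  have hQn : zpowers e ≤ normalizer (Q : Set G) :=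
    (zpowers_le.mpr heA).trans (le_op_left.trans hQX.norm)
  have hQu : Q ≤ L u := F.pCore_le h (F.node v hv).isXA D.edge.tail D.edge.head.prime D.edge.ne.symm
  have hQe : zpowers e ≤ centralizer (Q : Set G) :=
    Coprime.commutator_eq_bot_iff_le_centralizer'.mp (le_bot_iff.mp
      (D.faithful_third h F hv hvu hvw hall hnv ▸ le_inf
        (Coprime.commutator_le_of_le_normalizer hQn)
        (commutator_le_centralizer_of_normalizes (hQu.trans (le_normalizer_pCoreOf v (L u)))
          (zpowers_le_centralizer hRe))))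
  have hA0X := (F.node w D.edge.head).isXA.pCoreOf u
  have hA0n : zpowers e ≤ normalizer (A0 : Set G) :=
    (zpowers_le.mpr heA).trans (le_op_left.trans hA0X.norm)
  have hA0v : A0 ≤ L v :=
    F.pCore_le h (F.node w D.edge.head).isXA hv D.edge.tail.prime hvu.symm
  have hcop : (Nat.card (zpowers e)).Coprime (Nat.card A0) :=
    IsPGroup.coprime_card_of_ne r u (h.inFit_ne D.edge.tail.choose_spec.1.mem
      D.edge.tail.choose_spec.2) (zpowers e) A0 (Hyperplane.zpowers_isPGroup h.elem heA)
      (pCoreOf_isPGroup u (L w))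
  have hA0Q : A0 ≤ centralizer (Q : Set G) := by
    refine (Coprime.commutator_sup_inf_centralizer (A := zpowers e) (K := A0) hA0n hcop
      (Or.inl (Coprime.isSolvable_of_isMulCommutative _))).symm.le.trans (sup_le
        (commutator_le_centralizer_of_normalizes (hA0v.trans (le_normalizer_pCoreOf w (L v))) hQe) ?_)
    refine le_trans (le_trans (inf_le_inf_left _
      (centralizer_le (Set.singleton_subset_iff.mpr (mem_zpowers e)))) hfpf.le) bot_le
  exact hnv (F.edge_of_pCore_le h hv D.edge.head hvw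
    (h.captured_pCore (F.node w D.edge.head) (F.inFit_head h D.edge) Q hQX.mem
      ((le_centralizer_iff.mp hA0Q).trans (centralizer_le_normalizer _))))

/-- A colour of a line that is not special is pure of type `w` and contains no third core. -/
lemma colour_pure (hu2 : u ≠ 2) {e : G} (he : e ∈ E) (he1 : e ≠ 1) (hns : ¬ Special L u w e)
    {K : Subgroup G} (hK : IsNode r A θ K) (hKθ : θ e ≤ K) : Pure w K := by
  haveI := h.fact
  have hvK : ¬ InFit v K := fun hvK =>
    hns (Or.inl (D.special_of_third h F hv hvu hvw hall he he1 hK hKθ hvK))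
  have huK : ¬ InFit u K := by
    intro huK
    by_cases hle : Cfsg.pCoreOf w K ≤ L w
    · refine hns (D.full_of_fit_le h F hu2 he he1 hK hKθ huK (fitOf_le_of_inFit fun q hq => ?_))
      by_cases hqw : q = w
      · exact hqw ▸ hle
      · exact F.pCore_le h hK.isXA D.edge.head hq.1 hqw
    have hwK : InFit w K := ⟨D.edge.head.prime, fun e' => hle (e' ▸ bot_le)⟩
    have hKv : K = L v := F.eq_L h hK hv hvK fun q hq hqv => by
      rcases hall q hq with rfl | rfl | rfl
      · exact huK
      · exact absurd rfl hqv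
      · exact hwK
    subst hKv
    have hnv : ¬ Edge r A θ L v w := fun ev => hle (pCoreOf_le_of_fitOf_le ev.le D.edge.head.prime)
    have hv2 := D.two_of_no_edge h F hv hvu hvw hall hnv
    have hw2 : w ≠ 2 := fun e' => hvw (hv2.trans e'.symm)
    haveI := Fact.mk hv.prime
    haveI := Fact.mk D.edge.head.prime
    have heA := D.plane.le he
    set R := Cfsg.pCoreOf v (L u)
    set Q := Cfsg.pCoreOf w (L v)
    have hQX := (F.node v hv).isXA.pCoreOf w
    have hRX := (F.node u D.edge.tail).isXA.pCoreOf v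
    have hQn : zpowers e ≤ normalizer (Q : Set G) :=
      (zpowers_le.mpr heA).trans (le_op_left.trans hQX.norm)
    have hQu : Q ≤ L u := F.pCore_le h (F.node v hv).isXA D.edge.tail D.edge.head.prime D.edge.ne.symm
    have hQe : Q ≤ centralizer ({e} : Set G) := by
      refine le_centralizer_singleton (le_bot_iff.mp
        (D.faithful_third h F hv hvu hvw hall hnv ▸ le_inf
          (Coprime.commutator_le_of_le_normalizer hQn) ?_))
      refine commutator_le_centralizer_of_fixed (r := r) (h.inFit_ne hK.mem hwK)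
        (h.inFit_ne hv.choose_spec.1.mem hv.choose_spec.2) hvw.symm hw2 (h.elem.2 e heA)
        (pCoreOf_isPGroup w (L v)) (pCoreOf_isPGroup v (L u)) (hQn (mem_zpowers e))
        (le_op_left.trans hRX.norm heA) (hQu.trans (le_normalizer_pCoreOf v (L u))) ?_
      exact le_centralizer_of_mutual (X := L u) (Y := L v) hv.prime D.edge.head.prime hvw inf_le_left
        le_rfl (inf_centralizer_le_colour hRX.mem heA he1 hKθ) hQu
    have hKe : L v ≤ centralizer ({e} : Set G) := by
      refine h.centralizes_node hK heA (fitOf_le_of_inFit fun q hq => ?_)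
      rcases hall q ⟨L v, hK, hq⟩ with rfl | rfl | rfl
      · exact D.centralizes_colour h F hu2 he he1 hK hKθ hq
      · exact absurd hq hvK
      · exact hQe
    exact hns (Or.inr ((F.pCore_le h (F.node w D.edge.head).isXA hv D.edge.tail.prime hvu.symm).trans
      hKe))
  obtain ⟨q, hq⟩ := h.node_exists_inFit hK
  have hsub : ∀ t, InFit t K → t = w := fun t ht => by
    rcases hall t ⟨K, hK, ht⟩ with rfl | rfl | rfl
    · exact absurd ht huK
    · exact absurd ht hvK
    · rfl
  exact ⟨hsub q hq ▸ hq, hsub⟩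

/-- At most one line has colour pure of type `w`. -/
lemma pure_unique {a b : G} (ha : a ∈ E) (ha1 : a ≠ 1) (hb : b ∈ E) (hb1 : b ≠ 1)
    (hnsa : ¬ Special L u w a) (_hnsb : ¬ Special L u w b) {Ka Kb : Subgroup G}
    (hKa : IsNode r A θ Ka) (hKaθ : θ a ≤ Ka) (hpa : Pure w Ka)
    (hKb : IsNode r A θ Kb) (hKbθ : θ b ≤ Kb) (hpb : Pure w Kb) : b ∈ zpowers a := by
  by_contra hba
  haveI := h.fact
  haveI := Fact.mk D.edge.head.prime
  haveI := Fact.mk D.edge.tail.prime
  obtain rfl : Ka = Kb := F.pure.unique w Ka Kb hKa hKb hpa hpb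
  set K := Ka
  set P := Cfsg.pCoreOf w K
  set M := L w
  have hM := F.node w D.edge.head
  have hPu : P ≤ L u := F.pCore_le h hKa.isXA D.edge.tail D.edge.head.prime D.edge.ne.symm
  by_cases hwu : InFit w (L u)
  · set T := Cfsg.pCoreOf u M ⊓ K
    have hT1 : T ≠ ⊥ := D.meet_ne_bot h F ha ha1 hnsa hKaθ
    set Q := Cfsg.pCoreOf w (L u)
    have hQX := (F.node u D.edge.tail).isXA.pCoreOf w
    have hQP : Q ⊓ centralizer (P : Set G) ≤ P := by
      refine pgroup_fitOf_le (fun z hz => inf_centralizer_fitOf_le hKa.mem.1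
        ⟨?_, centralizer_fitOf_of_forall fun q hq => ?_⟩) ((pCoreOf_isPGroup w (L u)).to_le inf_le_left)
      · exact h.captured_pCore hKa hpa.1 _ (hQX.inf_centralizer (hKa.isXA.pCoreOf w).norm).mem
          (inf_le_right.trans (centralizer_le_normalizer _)) hz
      · by_cases hqK : InFit q K
        · rw [hpa.2 q hqK]; exact hz.2
        · rw [pCoreOf_eq_bot_of_not hq hqK]
          refine mem_centralizer_iff.mpr fun x hx => ?_
          rw [SetLike.mem_coe, mem_bot] at hx
          rw [hx, one_mul, mul_one]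
    set I := Q ⊓ P
    have hI : IsXA r A θ I := hQX.inf (hKa.isXA.pCoreOf w).norm
    have hI1 : I ≠ ⊥ := fun hbot => inf_centralizer_ne_bot (pCoreOf_isPGroup w (L u))
      (pCoreOf_isPGroup w K) (hPu.trans (le_normalizer_pCoreOf w (L u))) hwu.2
      (le_bot_iff.mp ((le_inf inf_le_left hQP).trans hbot.le))
    have hIM : I ≤ M := inf_le_left.trans (pCoreOf_le_of_fitOf_le D.edge.le D.edge.head.prime)
    have hTI : T ≤ centralizer (I : Set G) :=
      le_centralizer_of_mutual (X := M) (Y := K) D.edge.tail.prime D.edge.head.prime D.edge.ne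
        inf_le_left inf_le_right inf_le_right hIM
    obtain ⟨N, hN, hNle⟩ := h.exists_node_normalizer hI hI1
    have hTX : IsXA r A θ T := (hM.isXA.pCoreOf u).inf hKa.isXA.norm
    rcases F.piece_node h D.edge.head D.edge.tail D.edge.ne.symm hI inf_le_left hN hNle with
      h1 | h1 | ⟨s, hsw, -, es, -⟩
    · refine hT1 (le_bot_iff.mp ?_)
      rw [← D.inf_head_eq_bot h F]
      exact le_inf inf_le_left (h1 ▸ hNle T hTX.mem (hTI.trans (centralizer_le_normalizer _)))
    · subst h1
      have hC : P ⊓ centralizer (I : Set G) ≤ centralizer (T : Set G) :=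
        le_centralizer_of_mutual (X := K) (Y := M) D.edge.head.prime D.edge.tail.prime D.edge.ne.symm
          inf_le_left inf_le_left
          (hNle _ ((hKa.isXA.pCoreOf w).inf_centralizer hI.norm).mem
            (inf_le_right.trans (centralizer_le_normalizer _))) inf_le_right
      have hTP : T ≤ centralizer (P : Set G) := Coprime.le_centralizer_of_pxq
        ((pCoreOf_isPGroup w (L u)).to_le inf_le_left)
        (by
          obtain ⟨k, hk⟩ := ((pCoreOf_isPGroup u M).to_le (inf_le_left : T ≤ _)).exists_card_eq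
          rw [hk]
          exact Nat.Coprime.pow_left k
            ((Nat.coprime_primes D.edge.tail.prime D.edge.head.prime).mpr D.edge.ne))
        (pCoreOf_isPGroup w K) (le_centralizer_iff.mp hTI) (inf_le_right.trans le_normalizer)
        (inf_le_right.trans (le_normalizer_pCoreOf w K)) hC
      exact hT1 (le_bot_iff.mp ((le_inf le_rfl hTP).trans
        (inf_centralizer_fitOf_eq_bot hKa.mem.1 hpa D.edge.tail.prime D.edge.ne
          ((pCoreOf_isPGroup u M).to_le inf_le_left) inf_le_right).le))
    · exact hsw (F.out_unique h es D.edge)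
  have hpu := D.pure_tail h F hv hvu hvw hall hwu
  haveI := Fact.mk hv.prime
  set R := Cfsg.pCoreOf v (L u)
  have hfitK : fitOf K ≤ P := fitOf_le_of_inFit fun q hq => (hpa.2 q hq).symm ▸ le_rfl
  by_cases hv2 : v = 2
  · have hw2 : w ≠ 2 := fun e' => hvw (hv2.trans e'.symm)
    have hcent : ∀ d ∈ E, d ≠ 1 → θ d ≤ K → K ≤ centralizer ({d} : Set G) := by
      intro d hd hd1 hdK
      have hdA := D.plane.le hd
      have hPn : zpowers d ≤ normalizer (P : Set G) :=
        (zpowers_le.mpr hdA).trans (le_op_left.trans (hKa.isXA.pCoreOf w).norm)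
      have hRX := (F.node u D.edge.tail).isXA.pCoreOf v
      refine h.centralizes_node hKa hdA (hfitK.trans (le_centralizer_singleton (le_bot_iff.mp ?_)))
      rw [← inf_centralizer_fitOf_eq_bot (F.node u D.edge.tail).mem.1 hpu D.edge.head.prime hvw.symm
        (pCoreOf_isPGroup w K) hPu]
      refine le_inf (Coprime.commutator_le_of_le_normalizer hPn) ?_
      refine commutator_le_centralizer_of_fixed (r := r) (h.inFit_ne hKa.mem hpa.1)
        (h.inFit_ne hv.choose_spec.1.mem hv.choose_spec.2) hvw.symm hw2 (h.elem.2 d hdA)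
        (pCoreOf_isPGroup w K) (pCoreOf_isPGroup v (L u)) (hPn (mem_zpowers d))
        (le_op_left.trans hRX.norm hdA) (hPu.trans (le_normalizer_pCoreOf v (L u))) ?_
      exact le_centralizer_of_mutual (X := L u) (Y := K) hv.prime D.edge.head.prime hvw inf_le_left
        le_rfl (inf_centralizer_le_colour hRX.mem hdA hd1 hdK) hPu
    have hKE := h.plane_centralizes D.plane ha ha1 hb hba (hcent a ha ha1 hKaθ) (hcent b hb hb1 hKbθ)
    obtain ⟨d, hd, hd1, hnot⟩ := h.plane_not_all D.plane hKa.mem
    refine hnot ((hKa.eq_of_le (Signalizer.theta_mem h.func (D.plane.le hd) hd1) ?_).le)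
    exact (le_inf le_rfl (hKE.trans (centralizer_le (Set.singleton_subset_iff.mpr hd)))).trans
      (hKa.mem.2.2.2 d (D.plane.le hd) hd1)
  · obtain ⟨e, he, he1, hfpf⟩ := D.exists_fpf_line h F hv hvu hvw hall
    have heA := D.plane.le he
    have hLu := h.centralizes_node (F.node u D.edge.tail) heA (fitOf_le_of_inFit fun q hq =>
      (hpu.2 q hq).symm ▸ D.centralizes_tail_core h F hv hvu hvw hall hv2 he (Or.inl hfpf))
    have hKe := h.centralizes_node hKa heA (hfitK.trans (hPu.trans hLu))
    have e1 := hKa.eq_of_le (Signalizer.theta_mem h.func heA he1)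
      ((le_inf le_rfl hKe).trans (hKa.mem.2.2.2 e heA he1))
    have e2 := (F.node u D.edge.tail).eq_of_le (Signalizer.theta_mem h.func heA he1)
      ((le_inf le_rfl hLu).trans ((F.node u D.edge.tail).mem.2.2.2 e heA he1))
    exact hwu ((e1.symm.trans e2) ▸ hpa.1)

end EdgeData

namespace Family

variable (h : Minimal r A θ) (F : Family r A θ L)
include h F

theorem no_edge_three_odd {u w v : ℕ} (e : Edge r A θ L u w) (ht : Terminal r A θ L w)
    (hu2 : u ≠ 2) (hv : InPi r A θ v) (hvu : v ≠ u) (hvw : v ≠ w)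
    (hall : ∀ q, InPi r A θ q → q = u ∨ q = v ∨ q = w) : False := by
  obtain ⟨E, H, D⟩ := F.exists_edgeData h e ht
  obtain ⟨a, ha, ha1⟩ := h.plane_ne_one D.plane
  obtain ⟨b, hb, hba⟩ := h.exists_off_line D.plane a ha
  have hb1 : b ≠ 1 := fun e1 => hba (e1 ▸ one_mem _)
  have hc : a * b ∈ E := mul_mem ha hb
  have hca : a * b ∉ zpowers a := fun h1 => hba
    (by simpa using mul_mem (inv_mem (mem_zpowers a)) h1)
  have hc1 : a * b ≠ 1 := fun e1 => hca (e1 ▸ one_mem _)
  have hcb : a * b ∉ zpowers b := fun h1 => by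
    have h2 : a ∈ zpowers b := by simpa using mul_mem h1 (inv_mem (mem_zpowers b))
    exact hba (h.zpowers_eq D.plane.le ha ha1 h2 hb hb1 ▸ mem_zpowers b)
  have key : ∀ x y, x ∈ E → y ∈ E → x ≠ 1 → y ≠ 1 → y ∉ zpowers x →
      ¬ Special L u w x → ¬ Special L u w y → False := by
    intro x y hx hy hx1 hy1 hyx hnx hny
    obtain ⟨Kx, hKx, hKxθ⟩ := h.exists_colour (D.plane.le hx) hx1
    obtain ⟨Ky, hKy, hKyθ⟩ := h.exists_colour (D.plane.le hy) hy1
    exact hyx (D.pure_unique h F hv hvu hvw hall hx hx1 hy hy1 hnx hny hKx hKxθ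
      (D.colour_pure h F hv hvu hvw hall hu2 hx hx1 hnx hKx hKxθ) hKy hKyθ
      (D.colour_pure h F hv hvu hvw hall hu2 hy hy1 hny hKy hKyθ))
  by_cases hsa : Special L u w a
  · exact key b (a * b) hb hc hb1 hc1 hcb (fun hsb => hba (D.special_unique h F ha ha1 hb hsa hsb))
      (fun hsc => hca (D.special_unique h F ha ha1 hc hsa hsc))
  · by_cases hsb : Special L u w b
    · exact key a (a * b) ha hc ha1 hc1 hca hsa
        (fun hsc => hcb (D.special_unique h F hb hb1 hc hsb hsc))
    · exact key a b ha hb ha1 hb1 hba hsa hsb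

theorem no_edge_three {u w v : ℕ} (e : Edge r A θ L u w) (ht : Terminal r A θ L w)
    (hv : InPi r A θ v) (hvu : v ≠ u) (hvw : v ≠ w)
    (hall : ∀ q, InPi r A θ q → q = u ∨ q = v ∨ q = w) : False := by
  by_cases hu2 : u = 2
  · obtain ⟨E, H, D⟩ := F.exists_edgeData h e ht
    have ev : Edge r A θ L v w := by_contra fun hnv =>
      hvu ((D.two_of_no_edge h F hv hvu hvw hall hnv).trans hu2.symm)
    exact F.no_edge_three_odd h ev ht (fun e2 => hvu (e2.trans hu2.symm)) e.tail hvu.symm e.ne
      fun q hq => by have := hall q hq; tauto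
  · exact F.no_edge_three_odd h e ht hu2 hv hvu hvw hall

theorem false_of_family : False := by
  obtain ⟨u, w, e⟩ := F.exists_edge h
  by_cases h4 : ∀ a b c, ∃ x, InPi r A θ x ∧ x ≠ a ∧ x ≠ b ∧ x ≠ c
  · exact F.no_edge_four h h4 e
  push Not at h4
  obtain ⟨a, b, c, habc⟩ := h4
  obtain ⟨v, hv, hvu, hvw⟩ := F.three u w
  have hall : ∀ q, InPi r A θ q → q = u ∨ q = v ∨ q = w := fun q hq => by
    have h1 := habc q hq
    have h2 := habc u e.tail
    have h3 := habc w e.head
    have h5 := habc v hv
    have := e.ne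
    omega
  by_cases ht : Terminal r A θ L w
  · exact F.no_edge_three h e ht hv hvu hvw hall
  obtain ⟨z, ewz⟩ : ∃ z, Edge r A θ L w z := by
    by_contra hc
    push Not at hc
    exact ht ⟨e.head, hc⟩
  obtain rfl : z = v := by
    rcases hall z ewz.head with rfl | rfl | rfl
    · exact absurd ewz (F.edge_asymm h e)
    · rfl
    · exact absurd rfl ewz.ne
  by_cases ht2 : Terminal r A θ L z
  · exact F.no_edge_three h ewz ht2 e.tail e.ne (Ne.symm hvu)
      fun q hq => by have := hall q hq; tauto
  obtain ⟨y, ezy⟩ : ∃ y, Edge r A θ L z y := by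
    by_contra hc
    push Not at hc
    exact ht2 ⟨hv, hc⟩
  obtain rfl : y = u := by
    rcases hall y ezy.head with rfl | rfl | rfl
    · rfl
    · exact absurd rfl ezy.ne
    · exact absurd ezy (F.edge_asymm h ewz)
  exact F.no_triangle h e ewz ezy fun q hq => by have := hall q hq; tauto

end Family

/-- Three primes or more do not occur. -/
theorem Minimal.not_three (h : Minimal r A θ) (hp : PureFacts r A θ)
    (h3 : ∀ a b, ∃ c, InPi r A θ c ∧ c ≠ a ∧ c ≠ b) : False := by
  obtain ⟨L, F⟩ := exists_family h hp h3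
  exact F.false_of_family h

end Cfsg.Agent.SolvableSignalizer
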