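import Cfsg.Agent.Lib.SolvableSignalizer.ThreePrimes.Digraph

/-!
There is an edge between two primes, and no triangle when the primes are three.
-/

set_option autoImplicit false
set_option linter.style.haveILetI false
set_option linter.unusedSectionVars false

namespace Cfsg.Agent.SolvableSignalizer

open Subgroup
open Cfsg.Agent.Components
open scoped Pointwise

universe u

variable {G : Type u} [Group G] [Finite G] {r : ℕ} {A : Subgroup G} {θ : G → Subgroup G}
  {L : ℕ → Subgroup G}

lemma inf_centralizer_le_colour {K X : Subgroup G} {f : G}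
    (hX : X ∈ Cfsg.signalizerFamily r A θ) (hf : f ∈ A) (hf1 : f ≠ 1) (hK : θ f ≤ K) :
    X ⊓ centralizer {f} ≤ K :=
  (hX.2.2.2 f hf hf1).trans hK

lemma inf_centralizer_fitOf_eq_bot {K : Subgroup G} (hK : Group.IsSolvable K) {q s : ℕ}
    (hq : Pure q K) (hs : s.Prime) (hne : s ≠ q) {R : Subgroup G} (hR : IsPGroup s R) (hRK : R ≤ K) :
    R ⊓ centralizer ((Cfsg.pCoreOf q K : Subgroup G) : Set G) = ⊥ := by
  haveI := Fact.mk hs
  refine le_bot_iff.mp (le_trans (pgroup_fitOf_le (M := K) ?_ (hR.to_le inf_le_left))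
    (le_of_eq ?_))
  · rintro z ⟨hzR, hzC⟩
    refine inf_centralizer_fitOf_le hK ⟨hRK hzR, centralizer_fitOf_of_forall fun t ht => ?_⟩
    by_cases htK : InFit t K
    · rw [hq.2 t htK]; exact hzC
    · rw [pCoreOf_eq_bot_of_not ht htK]
      refine mem_centralizer_iff.mpr fun x hx => ?_
      rw [SetLike.mem_coe, mem_bot] at hx
      rw [hx, one_mul, mul_one]
  · exact pCoreOf_eq_bot_of_not hs fun h1 => hne (hq.2 s h1)

namespace Family

variable (h : Minimal r A θ) (F : Family r A θ L)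
include h F

lemma eq_L {K : Subgroup G} (hK : IsNode r A θ K) {s : ℕ} (hs : InPi r A θ s) (hnot : ¬ InFit s K)
    (hall : ∀ q, InPi r A θ q → q ≠ s → InFit q K) : K = L s := by
  have hFN := F.fit_le_of_missing h hK hs hnot
  refine h.eq_of_fit_le F.pure hK (F.node s hs) hFN (fitOf_le_of_inFit fun q hq =>
    h.pCore_le_of_fit_le F.pure hK (F.node s hs) hFN (hall q ⟨L s, F.node s hs, hq⟩ fun e => ?_))
  exact F.not_inFit_self h hs (e ▸ hq)

lemma exists_odd (a : ℕ) : ∃ c, InPi r A θ c ∧ c ≠ a ∧ c ≠ 2 := by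
  obtain ⟨c, hc, hc2, hca⟩ := F.three 2 a
  exact ⟨c, hc, hca, hc2⟩

theorem exists_edge : ∃ a b, Edge r A θ L a b := by
  by_contra hc
  push Not at hc
  have hterm : ∀ a, InPi r A θ a → Terminal r A θ L a := fun a ha => ⟨ha, fun b => hc a b⟩
  have hexcl : ∀ a b c, InPi r A θ a → InPi r A θ b → InPi r A θ c → a ≠ b → a ≠ c → b ≠ c →
      c ≠ 2 → ∀ f ∈ A, ¬ Cfsg.pCoreOf a (L b) ⊓ centralizer {f} ≤ L a :=
    fun a b c ha hb hcp hab hac hbc hc2 f hf =>
      F.chain h ha hb hcp hab hac hbc hc2 (F.inFit_of_terminal h (hterm b hb) ha hab) (hc c b)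
        (F.faithful h hb hcp (hterm a ha) hab hac hbc (hc b a))
        (F.faithful h ha hb (hterm c hcp) hac.symm hbc.symm hab (hc a c)) hf
  have hpure2 : ∀ f ∈ A, f ≠ 1 → ∀ K, IsNode r A θ K → θ f ≤ K → Pure 2 K := by
    intro f hf hf1 K hK hKθ
    obtain ⟨s, hs, hsK⟩ := F.exists_missing h hK
    by_cases hex : ∃ t, InPi r A θ t ∧ t ≠ s ∧ ¬ InFit t K
    · obtain ⟨t, ht, hts, htK⟩ := hex
      by_cases hodd : ∃ c, InPi r A θ c ∧ c ≠ s ∧ c ≠ t ∧ c ≠ 2
      · obtain ⟨c, hcp, hcs, hct, hc2⟩ := hodd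
        refine absurd ?_ (hexcl s t c hs ht hcp hts.symm hcs.symm hct.symm hc2 f hf)
        refine le_trans (le_of_eq (F.t_lemma h hK hs.prime hsK ht inf_le_left ?_ (Or.inl htK))) bot_le
        exact inf_centralizer_le_colour ((F.node t ht).isXA.pCoreOf s).mem hf hf1 hKθ
      · push Not at hodd
        have hall : ∀ q, InFit q K → q = 2 := fun q hq => hodd q ⟨K, hK, hq⟩
          (fun e => hsK (e ▸ hq)) (fun e => htK (e ▸ hq))
        obtain ⟨q, hq⟩ := h.node_exists_inFit hK
        exact ⟨hall q hq ▸ hq, hall⟩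
    · push Not at hex
      obtain ⟨c, hcp, hcs, hc2⟩ := F.exists_odd h s
      obtain ⟨b, hb, hbs, hbc⟩ := F.three s c
      refine absurd ?_ (hexcl s b c hs hb hcp hbs.symm hcs.symm hbc hc2 f hf)
      rw [← F.eq_L h hK hs hsK hex]
      exact inf_centralizer_le_colour ((F.node b hb).isXA.pCoreOf s).mem hf hf1 hKθ
  obtain ⟨a, ha, ha1⟩ := h.exists_ne_one
  obtain ⟨K, hK, hKθ⟩ := h.exists_colour ha ha1
  refine h.notComplete ⟨K, hK.mem, fun b hb hb1 => ?_⟩
  obtain ⟨N, hN, hNθ⟩ := h.exists_colour hb hb1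
  rw [F.pure.unique 2 K N hK hN (hpure2 a ha ha1 K hK hKθ) (hpure2 b hb hb1 N hN hNθ)]
  exact hNθ

/-- The colours in a triangle. -/
lemma triangle_colour {a b c : ℕ} (eab : Edge r A θ L a b) (ebc : Edge r A θ L b c)
    (eca : Edge r A θ L c a) (hpure : ∀ q, InPi r A θ q → q = a ∨ q = b ∨ q = c) (hc2 : c ≠ 2)
    {f : G} (hf : f ∈ A) (hf1 : f ≠ 1) : ¬ θ f ≤ L a := by
  intro hθ
  haveI := h.fact
  have hp : ∀ {x y z : ℕ}, Edge r A θ L x y → Edge r A θ L y z → Edge r A θ L z x →
      (∀ q, InPi r A θ q → q = x ∨ q = y ∨ q = z) → Pure z (L x) := by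
    intro x y z exy eyz ezx hall
    obtain ⟨hz, -⟩ := F.path_missing h exy eyz
    refine ⟨hz, fun q hq => ?_⟩
    rcases hall q ⟨L x, F.node x exy.tail, hq⟩ with rfl | rfl | rfl
    · exact absurd hq (F.not_inFit_self h exy.tail)
    · exact absurd hq (F.path_missing h ezx exy).2
    · rfl
  have hab := eab.ne
  have hbc := ebc.ne
  have hac : a ≠ c := eca.ne.symm
  have hb : Pure a (L b) := hp ebc eca eab fun q hq => by have := hpure q hq; tauto
  have ha : Pure c (L a) := hp eab ebc eca hpure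
  refine F.chain h eab.tail eab.head eca.tail hab hac hbc hc2 hb.1
    (fun e => F.edge_asymm h ebc e) ?_ ?_ hf
    (inf_centralizer_le_colour ((F.node b eab.head).isXA.pCoreOf a).mem hf hf1 hθ)
  · exact inf_centralizer_fitOf_eq_bot (F.node b eab.head).mem.1 hb eca.tail.prime hac.symm
      (pCoreOf_isPGroup c (L a))
      (F.pCore_le h (F.node a eab.tail).isXA eab.head eca.tail.prime hbc.symm)
  · exact inf_centralizer_fitOf_eq_bot (F.node a eab.tail).mem.1 ha eab.head.prime hbc
      (pCoreOf_isPGroup b (L c))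
      (F.pCore_le h (F.node c eca.tail).isXA eab.tail eab.head.prime hab.symm)

theorem no_triangle {a b c : ℕ} (eab : Edge r A θ L a b) (ebc : Edge r A θ L b c)
    (eca : Edge r A θ L c a) (hall : ∀ q, InPi r A θ q → q = a ∨ q = b ∨ q = c) : False := by
  have hnode : ∀ K, IsNode r A θ K → K = L a ∨ K = L b ∨ K = L c := by
    intro K hK
    obtain ⟨q, hq⟩ := h.node_exists_inFit hK
    by_cases hex : ∃ t, InFit t K ∧ t ≠ q
    · obtain ⟨t, ht, htq⟩ := hex
      obtain ⟨s, hs, hsK⟩ := F.exists_missing h hK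
      have hKs : K = L s := F.eq_L h hK hs hsK fun x hx hxs => by
        have hsq : s ≠ q := fun e => hsK (e ▸ hq)
        have hst : s ≠ t := fun e => hsK (e ▸ ht)
        by_contra hxK
        have hxq : x ≠ q := fun e => hxK (e ▸ hq)
        have hxt : x ≠ t := fun e => hxK (e ▸ ht)
        have := hall s hs
        have := hall x hx
        have := hall q ⟨K, hK, hq⟩
        have := hall t ⟨K, hK, ht⟩
        omega
      rcases hall s hs with rfl | rfl | rfl <;> tauto
    · push Not at hex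
      have hPK : Pure q K := ⟨hq, hex⟩
      have key : ∀ {x y z : ℕ}, Edge r A θ L x y → Edge r A θ L y z → Edge r A θ L z x →
          (∀ t, InPi r A θ t → t = x ∨ t = y ∨ t = z) → q = z → K = L x := by
        intro x y z exy eyz ezx hall' hqz
        subst hqz
        refine F.pure.unique q K (L x) hK (F.node x exy.tail) hPK
          ⟨(F.path_missing h exy eyz).1, fun t ht => ?_⟩
        rcases hall' t ⟨L x, F.node x exy.tail, ht⟩ with rfl | rfl | rfl
        · exact absurd ht (F.not_inFit_self h exy.tail)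
        · exact absurd ht (F.path_missing h ezx exy).2
        · rfl
      rcases hall q ⟨K, hK, hq⟩ with h1 | h1 | h1
      · exact Or.inr (Or.inl (key ebc eca eab (fun t ht => by have := hall t ht; tauto) h1))
      · exact Or.inr (Or.inr (key eca eab ebc (fun t ht => by have := hall t ht; tauto) h1))
      · exact Or.inl (key eab ebc eca hall h1)
  have hA' : ∀ q, InPi r A θ q → q = b ∨ q = c ∨ q = a := fun q hq => by
    have := hall q hq; tauto
  have hA'' : ∀ q, InPi r A θ q → q = c ∨ q = a ∨ q = b := fun q hq => by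
    have := hall q hq; tauto
  obtain ⟨f, hf, hf1, hnot⟩ : ∃ f ∈ A, f ≠ 1 ∧ ¬ θ f ≤ (if c = 2 then L a else if a = 2 then L b
      else L c) := by
    refine h.not_all ?_
    split_ifs
    · exact (F.node a eab.tail).mem
    · exact (F.node b eab.head).mem
    · exact (F.node c eca.tail).mem
  obtain ⟨K, hK, hKθ⟩ := h.exists_colour hf hf1
  rcases hnode K hK with rfl | rfl | rfl
  · by_cases hc2 : c = 2
    · rw [if_pos hc2] at hnot; exact hnot hKθ
    · exact F.triangle_colour h eab ebc eca hall hc2 hf hf1 hKθ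
  · by_cases ha2 : a = 2
    · rw [if_neg (fun e => eca.ne (e.trans ha2.symm)), if_pos ha2] at hnot; exact hnot hKθ
    · exact F.triangle_colour h ebc eca eab hA' ha2 hf hf1 hKθ
  · by_cases hb2 : b = 2
    · rw [if_neg (fun e => ebc.ne (hb2.trans e.symm)), if_neg (fun e => eab.ne (e.trans hb2.symm))] at hnot
      exact hnot hKθ
    · exact F.triangle_colour h eca eab ebc hA'' hb2 hf hf1 hKθ

end Family

end Cfsg.Agent.SolvableSignalizer
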