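import Cfsg.Agent.Lib.SolvableSignalizer.ThreePrimes.NoFull

/-!
The relation `F(L a) ≤ L b` on the primes.
-/

set_option autoImplicit false
set_option linter.style.haveILetI false
set_option linter.unusedSectionVars false

namespace Cfsg.Agent.SolvableSignalizer

open Subgroup
open Cfsg.Agent.Components
open scoped Pointwise

universe u

variable {G : Type u} [Group G] [Finite G] {r : ℕ} {A : Subgroup G} {θ : G → Subgroup G}
  {L : ℕ → Subgroup G}

/-- `F(L a) ≤ L b`. -/
structure Edge (r : ℕ) (A : Subgroup G) (θ : G → Subgroup G) (L : ℕ → Subgroup G) (a b : ℕ) :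
    Prop where
  tail : InPi r A θ a
  head : InPi r A θ b
  ne : a ≠ b
  le : fitOf (L a) ≤ L b

/-- No edge starts at `a`. -/
structure Terminal (r : ℕ) (A : Subgroup G) (θ : G → Subgroup G) (L : ℕ → Subgroup G) (a : ℕ) :
    Prop where
  mem : InPi r A θ a
  none : ∀ b, ¬ Edge r A θ L a b

namespace Family

variable (h : Minimal r A θ) (F : Family r A θ L)
include h F

lemma not_inFit_self {v : ℕ} (hv : InPi r A θ v) : ¬ InFit v (L v) := by
  intro hself
  obtain ⟨a, ha, hnot⟩ := F.exists_missing h (F.node v hv)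
  have hav : a ≠ v := fun e => hnot (e ▸ hself)
  have hfit : fitOf (L v) ≤ L a := F.fit_le_of_missing h (F.node v hv) ha hnot
  refine F.ne_of_ne h hv ha hav.symm (h.eq_of_fit_le F.pure (F.node v hv) (F.node a ha) hfit
    (fitOf_le_of_inFit fun q hq => ?_))
  by_cases hqv : InFit q (L v)
  · exact h.pCore_le_of_fit_le F.pure (F.node v hv) (F.node a ha) hfit hqv
  · exact F.pCore_le h (F.node a ha).isXA hv hq.1 fun e => hqv (e ▸ hself)

lemma edge_of_missing {v a : ℕ} (hv : InPi r A θ v) (ha : InPi r A θ a) (hne : v ≠ a)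
    (hnot : ¬ InFit a (L v)) : Edge r A θ L v a :=
  ⟨hv, ha, hne, F.fit_le_of_missing h (F.node v hv) ha hnot⟩

lemma edge_of_pCore_le {v a : ℕ} (hv : InPi r A θ v) (ha : InPi r A θ a) (hne : v ≠ a)
    (hle : Cfsg.pCoreOf a (L v) ≤ L a) : Edge r A θ L v a :=
  ⟨hv, ha, hne, fitOf_le_of_inFit fun q hq => by
    by_cases hqa : q = a
    · exact hqa ▸ hle
    · exact F.pCore_le h (F.node v hv).isXA ha hq.1 hqa⟩

lemma edge_asymm {a b : ℕ} (e : Edge r A θ L a b) : ¬ Edge r A θ L b a := fun e' =>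
  F.ne_of_ne h e.tail e.head e.ne
    (h.eq_of_fit_le F.pure (F.node a e.tail) (F.node b e.head) e.le e'.le)

lemma inFit_head {a b : ℕ} (e : Edge r A θ L a b) : InFit a (L b) := by
  by_contra hnot
  exact F.edge_asymm h e (F.edge_of_missing h e.head e.tail e.ne.symm hnot)

lemma inFit_tail {a b q : ℕ} (e : Edge r A θ L a b) (hq : InFit q (L b)) (hne : q ≠ a) :
    InFit q (L a) := by
  by_contra hnot
  have := Minimal.pCore_inf_eq_bot (L := L b) (F.node a e.tail).mem.1 e.le hq.1 hnot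
  rw [inf_eq_left.mpr (F.pCore_le h (F.node b e.head).isXA e.tail hq.1 hne)] at this
  exact hq.2 this

lemma inf_ne_bot {a b q : ℕ} (e : Edge r A θ L a b) (hb : InFit q (L b)) (ha : InFit q (L a)) :
    Cfsg.pCoreOf q (L b) ⊓ Cfsg.pCoreOf q (L a) ≠ ⊥ :=
  pCore_inf_pCore_ne_bot hb (F.node a e.tail).mem.1 e.le
    (F.pCore_le h (F.node b e.head).isXA e.tail ha.1
      fun e' => F.not_inFit_self h e.tail (e' ▸ ha))

/-- A piece of `O_y(L b)` in a node lacking `y` is trivial, in two situations. -/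
lemma t_lemma {K T : Subgroup G} (hK : IsNode r A θ K) {y b : ℕ} (hy : y.Prime)
    (hnot : ¬ InFit y K) (hb : InPi r A θ b) (hTb : T ≤ Cfsg.pCoreOf y (L b)) (hTK : T ≤ K)
    (hor : ¬ InFit b K ∨ ∃ s, InPi r A θ s ∧ s ≠ b ∧ T ≤ Cfsg.pCoreOf y (L s)) : T = ⊥ := by
  haveI := Fact.mk hy
  have hT : T ≤ fitOf K := fun z hz => inf_centralizer_fitOf_le hK.mem.1
    ⟨hTK hz, centralizer_fitOf_of_forall fun q hq => by
      by_cases hqK : InFit q K
      · have hqy : y ≠ q := fun e => hnot (e ▸ hqK)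
        by_cases hqb : q = b
        · obtain ⟨s, hs, hsb, hTs⟩ := hor.resolve_left fun h1 => h1 (hqb ▸ hqK)
          exact le_centralizer_of_mutual (X := L s) (Y := K) hy hq hqy hTs le_rfl hTK
            (F.pCore_le h hK.isXA hs hq (hqb ▸ hsb.symm)) hz
        · exact le_centralizer_of_mutual (X := L b) (Y := K) hy hq hqy hTb le_rfl hTK
            (F.pCore_le h hK.isXA hb hq hqb) hz
      · rw [pCoreOf_eq_bot_of_not hq hqK]
        refine mem_centralizer_iff.mpr fun x hx => ?_
        rw [SetLike.mem_coe, mem_bot] at hx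
        rw [hx, one_mul, mul_one]⟩
  refine le_bot_iff.mp ((pgroup_fitOf_le hT ((pCoreOf_isPGroup y (L b)).to_le hTb)).trans ?_)
  exact (pCoreOf_eq_bot_of_not hy hnot).le

/-- The node of the normaliser of a piece of `O_a(L b)`. -/
lemma piece_node {a b : ℕ} (ha : InPi r A θ a) (hb : InPi r A θ b) (hab : a ≠ b) {U N : Subgroup G}
    (hU : IsXA r A θ U) (hle : U ≤ Cfsg.pCoreOf a (L b)) (hN : IsNode r A θ N)
    (hcap : Captured r A θ U N) :
    N = L b ∨ N = L a ∨ ∃ s, s ≠ a ∧ s ≠ b ∧ Edge r A θ L b s ∧ N = L s := by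
  haveI := Fact.mk ha.prime
  have hUp : IsPGroup a U := (pCoreOf_isPGroup a (L b)).to_le hle
  have hbig : ∀ q : ℕ, q.Prime → q ≠ a → Cfsg.pCoreOf q (L b) ≤ N := fun q hq hqa =>
    hcap _ ((F.node b hb).isXA.pCoreOf q).mem
      (((pCoreOf_le_centralizer hq ha.prime hqa _).trans (centralizer_le hle)).trans
        (centralizer_le_normalizer _))
  have hfixed : ∀ {X : Subgroup G}, IsXA r A θ X → U ≤ X → InFit a X →
      Cfsg.pCoreOf a X ⊓ N ≠ ⊥ := by
    intro X hX hUX haX hbot
    refine inf_centralizer_ne_bot (pCoreOf_isPGroup a X) hUp (hUX.trans (le_normalizer_pCoreOf a X))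
      haX.2 (le_bot_iff.mp (le_trans (le_inf inf_le_left ?_) hbot.le))
    exact hcap _ ((hX.pCoreOf a).inf_centralizer hU.norm).mem
      (inf_le_right.trans (centralizer_le_normalizer _))
  by_cases hbN : InFit b N
  swap
  · refine Or.inl ?_
    have hFN := F.fit_le_of_missing h hN hb hbN
    refine h.eq_of_fit_le F.pure hN (F.node b hb) hFN (fitOf_le_of_inFit fun q hq => ?_)
    by_cases hqa : q = a
    · subst hqa
      refine h.pCore_le_of_fit_le F.pure hN (F.node b hb) hFN (by_contra fun hnot => ?_)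
      exact hfixed (F.node b hb).isXA (hle.trans (pCoreOf_le q _)) hq
        (Minimal.pCore_inf_eq_bot hN.mem.1 hFN hq.1 hnot)
    · exact hbig q hq.1 hqa
  have hkey : ∀ s, InPi r A θ s → ¬ InFit s N →
      (∀ q, InFit q (L s) → InFit q N) → N = L s := fun s hs hsN hsub => by
    have hFN := F.fit_le_of_missing h hN hs hsN
    exact h.eq_of_fit_le F.pure hN (F.node s hs) hFN (fitOf_le_of_inFit fun q hq =>
      h.pCore_le_of_fit_le F.pure hN (F.node s hs) hFN (hsub q hq))
  by_cases hex : ∃ s, InPi r A θ s ∧ s ≠ a ∧ ¬ InFit s N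
  · obtain ⟨s, hs, hsa, hsN⟩ := hex
    have hsb : s ≠ b := fun e => hsN (e ▸ hbN)
    have hFN := F.fit_le_of_missing h hN hs hsN
    have hUs : U ≤ L s := hle.trans (F.pCore_le h (F.node b hb).isXA hs ha.prime hsa.symm)
    have hNs : N = L s := hkey s hs hsN fun q hq => by
      by_contra hqN
      have hqb : q ≠ b := fun e => hqN (e ▸ hbN)
      by_cases hqa : q = a
      · subst hqa
        exact hfixed (F.node s hs).isXA hUs hq
          (Minimal.pCore_inf_eq_bot hN.mem.1 hFN hq.1 hqN)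
      · refine hq.2 ?_
        rw [← Minimal.pCore_inf_eq_bot (L := L s) hN.mem.1 hFN hq.1 hqN, eq_comm, inf_eq_left]
        refine hcap _ ((F.node s hs).isXA.pCoreOf q).mem (le_trans ?_ (centralizer_le_normalizer _))
        exact le_centralizer_of_mutual (X := L s) (Y := L b) hq.1 ha.prime hqa le_rfl hle
          (F.pCore_le h (F.node s hs).isXA hb hq.1 hqb) hUs
    exact Or.inr (Or.inr ⟨s, hsa, hsb,
      F.edge_of_pCore_le h hb hs hsb.symm (hNs ▸ hbig s hs.prime hsa), hNs⟩)
  · push Not at hex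
    refine Or.inr (Or.inl ?_)
    obtain ⟨s, hs, hsN⟩ := F.exists_missing h hN
    have hsa : s = a := by_contra fun e => hsN (hex s hs e)
    subst hsa
    refine hkey s hs hsN fun q hq => hex q ⟨_, F.node s hs, hq⟩ fun e => ?_
    exact F.not_inFit_self h hs (e ▸ hq)

lemma out_step {v a b : ℕ} (e : Edge r A θ L v a) (e' : Edge r A θ L v b) (hne : a ≠ b) :
    Edge r A θ L b a := by
  refine F.edge_of_missing h e'.head e.head hne.symm fun hab => ?_
  have hav := F.inFit_tail h e' hab e.ne.symm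
  refine F.inf_ne_bot h e' hab hav (F.t_lemma h (F.node a e.head) hab.1 (F.not_inFit_self h e.head)
    e'.head inf_le_left (inf_le_right.trans (pCoreOf_le_of_fitOf_le e.le hab.1))
    (Or.inr ⟨v, e.tail, e'.ne, inf_le_right⟩))

lemma out_unique {v a b : ℕ} (e : Edge r A θ L v a) (e' : Edge r A θ L v b) : a = b :=
  by_contra fun hne => F.edge_asymm h (F.out_step h e e' hne) (F.out_step h e' e (Ne.symm hne))

lemma inFit_of_edge {u w x : ℕ} (e : Edge r A θ L u w) (hx : InPi r A θ x) (hxu : x ≠ u)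
    (hxw : x ≠ w) : InFit x (L u) :=
  by_contra fun hnot => hxw (F.out_unique h (F.edge_of_missing h e.tail hx hxu.symm hnot) e)

lemma inFit_of_terminal {a x : ℕ} (ha : Terminal r A θ L a) (hx : InPi r A θ x) (hne : x ≠ a) :
    InFit x (L a) :=
  by_contra fun hnot => ha.none x (F.edge_of_missing h ha.mem hx hne.symm hnot)

lemma path_missing {u w z : ℕ} (e : Edge r A θ L u w) (e' : Edge r A θ L w z) :
    InFit z (L u) ∧ ¬ InFit z (L w) := by
  have hzu : z ≠ u := fun e1 => F.edge_asymm h e (e1 ▸ e')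
  have hzL := F.inFit_of_edge h e e'.head hzu e'.ne.symm
  refine ⟨hzL, fun hzw => F.inf_ne_bot h e hzw hzL (F.t_lemma h (F.node z e'.head) hzw.1
    (F.not_inFit_self h e'.head) e'.tail inf_le_left
    (inf_le_left.trans (pCoreOf_le_of_fitOf_le e'.le hzw.1))
    (Or.inr ⟨u, e.tail, e.ne, inf_le_right⟩))⟩

/-- A piece captured by the head of an edge. -/
lemma exists_captured {u w x : ℕ} (e : Edge r A θ L u w) (hxu : x ≠ u) (hx : InFit x (L w)) :
    ∃ U, IsXA r A θ U ∧ U ≠ ⊥ ∧ U ≤ Cfsg.pCoreOf x (L u) ∧ U ≤ Cfsg.pCoreOf x (L w) ∧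
      U ≤ centralizer ((wCore r x A θ : Subgroup G) : Set G) ∧ Captured r A θ U (L w) := by
  haveI := Fact.mk hx.1
  have hxw : x ≠ w := fun e' => F.not_inFit_self h e.head (e' ▸ hx)
  have hxPi : InPi r A θ x := ⟨L w, F.node w e.head, hx⟩
  set W := wCore r x A θ
  set I := Cfsg.pCoreOf x (L w) ⊓ Cfsg.pCoreOf x (L u)
  have hI : IsXA r A θ I :=
    ((F.node w e.head).isXA.pCoreOf x).inf ((F.node u e.tail).isXA.pCoreOf x).norm
  set U := I ⊓ centralizer (W : Set G)
  have hU : IsXA r A θ U := hI.inf_centralizer (h.wCore_isXA x).norm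
  have hU1 : U ≠ ⊥ := by
    refine inf_centralizer_ne_bot ((pCoreOf_isPGroup x _).to_le inf_le_left) (h.wCore_isPGroup x)
      (le_normalizer_inf ((F.wCore_le h e.head hx.1 hxw).trans (le_normalizer_pCoreOf x _))
        ((F.wCore_le h e.tail hx.1 hxu).trans (le_normalizer_pCoreOf x _)))
      (F.inf_ne_bot h e hx (F.inFit_tail h e hx hxu))
  refine ⟨U, hU, hU1, inf_le_left.trans inf_le_right, inf_le_left.trans inf_le_left, inf_le_right, ?_⟩
  obtain ⟨N, hN, hNle⟩ := h.exists_node_normalizer hU hU1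
  suffices hNw : N = L w from hNw ▸ hNle
  have hNx : N ≠ L x := fun e1 => F.wCore_not_le_self h hxPi (e1 ▸ hNle W (h.wCore_isXA x).mem
    ((le_centralizer_iff.mp inf_le_right).trans (centralizer_le_normalizer _)))
  rcases F.piece_node h hxPi e.head hxw hU (inf_le_left.trans inf_le_left) hN hNle with
    h1 | h1 | ⟨s, -, -, es, h1⟩
  · exact h1
  · exact absurd h1 hNx
  rcases F.piece_node h hxPi e.tail hxu hU (inf_le_left.trans inf_le_right) hN hNle with
    h2 | h2 | ⟨s', -, -, es', h2⟩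
  · refine absurd (h1.symm.trans h2) (F.ne_of_ne h es.head e.tail fun e1 => ?_)
    exact F.edge_asymm h e (e1 ▸ es)
  · exact absurd h2 hNx
  · rw [h2, F.out_unique h es' e]

/-- With a further prime, every prime has an edge into `w`. -/
lemma edge_into_head {u w x z : ℕ} (e : Edge r A θ L u w) (hz : InPi r A θ z)
    (hzw : z ≠ w) (hxu : x ≠ u) (hxz : x ≠ z) (hx : InFit x (L w)) : Edge r A θ L z w := by
  obtain ⟨U, hU, -, hUu, -, -, hUc⟩ := F.exists_captured h e hxu hx
  have hxw : x ≠ w := fun e' => F.not_inFit_self h e.head (e' ▸ hx)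
  refine F.edge_of_pCore_le h hz e.head hzw (hUc _ ((F.node z hz).isXA.pCoreOf w).mem
    (le_trans ?_ (centralizer_le_normalizer _)))
  exact le_centralizer_of_mutual (X := L z) (Y := L u) e.head.prime hx.1 hxw.symm le_rfl hUu
    (F.pCore_le h (F.node z hz).isXA e.tail e.head.prime e.ne.symm)
    (hUu.trans (F.pCore_le h (F.node u e.tail).isXA hz hx.1 hxz))

lemma no_path {u w z x : ℕ} (e : Edge r A θ L u w) (e' : Edge r A θ L w z) (hx : InPi r A θ x)
    (hxu : x ≠ u) (hxw : x ≠ w) (hxz : x ≠ z) : False := by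
  exact F.edge_asymm h e' (F.edge_into_head h e e'.head e'.ne.symm hxu hxz
    (by_contra fun hnot => hxz (F.out_unique h (F.edge_of_missing h e'.tail hx hxw.symm hnot) e')))

lemma meet_eq_bot {a b c : ℕ} (hb : InPi r A θ b) (hc : InPi r A θ c) (ha : Terminal r A θ L a)
    (hab : a ≠ b) (hac : a ≠ c) (hba : ¬ Edge r A θ L b a) :
    Cfsg.pCoreOf c (L a) ⊓ Cfsg.pCoreOf c (L b) = ⊥ := by
  set I := Cfsg.pCoreOf c (L a) ⊓ Cfsg.pCoreOf c (L b)
  by_contra hI1
  have hI : IsXA r A θ I :=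
    ((F.node a ha.mem).isXA.pCoreOf c).inf ((F.node b hb).isXA.pCoreOf c).norm
  obtain ⟨N, hN, hNle⟩ := h.exists_node_normalizer hI hI1
  have hCN : Cfsg.pCoreOf a (L b) ≤ N := hNle _ ((F.node b hb).isXA.pCoreOf a).mem
    (((pCoreOf_le_centralizer ha.mem.prime hc.prime hac _).trans (centralizer_le inf_le_right)).trans
      (centralizer_le_normalizer _))
  rcases F.piece_node h hc ha.mem hac.symm hI inf_le_left hN hNle with
    h1 | h1 | ⟨s, -, -, es, -⟩
  · exact hba (F.edge_of_pCore_le h hb ha.mem hab.symm (h1 ▸ hCN))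
  · refine hI1 (F.t_lemma h (F.node c hc) hc.prime (F.not_inFit_self h hc) ha.mem inf_le_left
      (h1 ▸ hNle I hI.mem le_normalizer) (Or.inr ⟨b, hb, hab.symm, inf_le_right⟩))
  · exact ha.none s es

lemma faithful {a b c : ℕ} (hb : InPi r A θ b) (hc : InPi r A θ c) (ha : Terminal r A θ L a)
    (hab : a ≠ b) (hac : a ≠ c) (hbc : b ≠ c) (hba : ¬ Edge r A θ L b a) :
    Cfsg.pCoreOf c (L a) ⊓ centralizer ((Cfsg.pCoreOf a (L b) : Subgroup G) : Set G) = ⊥ := by
  haveI := Fact.mk hc.prime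
  have hI := F.meet_eq_bot h hb hc ha hab hac hba
  set R := Cfsg.pCoreOf c (L a)
  have hRb : R ≤ L b := F.pCore_le h (F.node a ha.mem).isXA hb hc.prime hbc.symm
  refine le_bot_iff.mp (hI ▸ le_inf inf_le_left (pgroup_fitOf_le ?_
    ((pCoreOf_isPGroup c (L a)).to_le inf_le_left)))
  rintro z ⟨hzR, hzC⟩
  refine inf_centralizer_fitOf_le (F.node b hb).mem.1 ⟨hRb hzR,
    centralizer_fitOf_of_forall fun q hq => ?_⟩
  by_cases hqa : q = a
  · subst hqa
    exact hzC
  by_cases hqc : q = c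
  · subst hqc
    refine (commutator_eq_bot_iff_le_centralizer.mp (le_bot_iff.mp (hI ▸ le_inf ?_ ?_))) hzR
    · exact Coprime.commutator_le_of_le_normalizer
        ((F.pCore_le h (F.node b hb).isXA ha.mem hq hqa).trans (le_normalizer_pCoreOf q (L a)))
    · rw [commutator_comm]
      exact Coprime.commutator_le_of_le_normalizer (hRb.trans (le_normalizer_pCoreOf q (L b)))
  exact le_centralizer_of_mutual (X := L a) (Y := L b) hc.prime hq (Ne.symm hqc) le_rfl le_rfl hRb
    (F.pCore_le h (F.node b hb).isXA ha.mem hq hqa) hzR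

/-- The chain lemma. -/
lemma chain {a b c : ℕ} (ha : InPi r A θ a) (hb : InPi r A θ b) (hc : InPi r A θ c) (hab : a ≠ b)
    (hac : a ≠ c) (hbc : b ≠ c) (hc2 : c ≠ 2) (haL : InFit a (L b)) (hcb : ¬ Edge r A θ L c b)
    (hRC : Cfsg.pCoreOf c (L a) ⊓ centralizer ((Cfsg.pCoreOf a (L b) : Subgroup G) : Set G) = ⊥)
    (hDR : Cfsg.pCoreOf b (L c) ⊓ centralizer ((Cfsg.pCoreOf c (L a) : Subgroup G) : Set G) = ⊥)
    {f : G} (hf : f ∈ A) : ¬ Cfsg.pCoreOf a (L b) ⊓ centralizer {f} ≤ L a := by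
  haveI := h.fact
  haveI := Fact.mk ha.prime
  haveI := Fact.mk hc.prime
  intro hfix
  have hCa : Cfsg.pCoreOf a (L b) ⊓ L a ≤ centralizer ((Cfsg.pCoreOf c (L a) : Subgroup G) : Set G) :=
    le_centralizer_of_mutual (X := L b) (Y := L a) ha.prime hc.prime hac inf_le_left le_rfl
      inf_le_right (F.pCore_le h (F.node a ha).isXA hb hc.prime hbc.symm)
  set C := Cfsg.pCoreOf a (L b)
  set D := Cfsg.pCoreOf b (L c)
  set R := Cfsg.pCoreOf c (L a)
  have hA : ∀ {X : Subgroup G}, IsXA r A θ X → zpowers f ≤ normalizer (X : Set G) := fun hX =>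
    (zpowers_le.mpr hf).trans (le_op_left.trans hX.norm)
  have hCX := (F.node b hb).isXA.pCoreOf a
  have hRX := (F.node a ha).isXA.pCoreOf c
  have hDX := (F.node c hc).isXA.pCoreOf b
  have hRn : R ≤ normalizer (C : Set G) :=
    (F.pCore_le h (F.node a ha).isXA hb hc.prime hbc.symm).trans (le_normalizer_pCoreOf a (L b))
  have hCn : C ≤ normalizer (D : Set G) :=
    (F.pCore_le h (F.node b hb).isXA hc ha.prime hac).trans (le_normalizer_pCoreOf b (L c))
  have hDn : D ≤ normalizer (R : Set G) :=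
    (F.pCore_le h (F.node c hc).isXA ha hb.prime hab.symm).trans (le_normalizer_pCoreOf c (L a))
  have hfR : zpowers f ≤ centralizer (R : Set G) := by
    refine Coprime.commutator_eq_bot_iff_le_centralizer'.mp (le_bot_iff.mp (hRC ▸ le_inf
      (Coprime.commutator_le_of_le_normalizer (hA hRX)) ?_))
    refine commutator_le_centralizer_of_fixed (r := r)
      (h.inFit_ne hc.choose_spec.1.mem hc.choose_spec.2)
      (h.inFit_ne ha.choose_spec.1.mem ha.choose_spec.2) hac.symm hc2 (h.elem.2 f hf)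
      (pCoreOf_isPGroup c (L a)) (pCoreOf_isPGroup a (L b)) (hA hRX (mem_zpowers f))
      (hA hCX (mem_zpowers f)) hRn ?_
    exact (le_inf inf_le_left hfix).trans hCa
  have hfD : zpowers f ≤ centralizer (D : Set G) :=
    Coprime.commutator_eq_bot_iff_le_centralizer'.mp (le_bot_iff.mp (hDR ▸ le_inf
      (Coprime.commutator_le_of_le_normalizer (hA hDX))
      (commutator_le_centralizer_of_normalizes hDn hfR)))
  have hC0 : C ⊓ L a ≤ centralizer (D : Set G) :=
    Coprime.commutator_eq_bot_iff_le_centralizer'.mp (le_bot_iff.mp (hDR ▸ le_inf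
      (Coprime.commutator_le_of_le_normalizer (inf_le_left.trans hCn))
      (commutator_le_centralizer_of_normalizes hDn hCa)))
  have hCD : C ≤ centralizer (D : Set G) := by
    have hcop : (Nat.card (zpowers f)).Coprime (Nat.card C) :=
      IsPGroup.coprime_card_of_ne r a (h.inFit_ne ha.choose_spec.1.mem ha.choose_spec.2) (zpowers f) C
        (Hyperplane.zpowers_isPGroup h.elem hf) (pCoreOf_isPGroup a (L b))
    refine (Coprime.commutator_sup_inf_centralizer (A := zpowers f) (K := C) (hA hCX) hcop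
      (Or.inl (Coprime.isSolvable_of_isMulCommutative _))).symm.le.trans ?_
    refine sup_le (commutator_le_centralizer_of_normalizes hCn hfD) (le_trans ?_ hC0)
    have hle : C ⊓ centralizer ((zpowers f : Subgroup G) : Set G) ≤ C ⊓ centralizer {f} :=
      inf_le_inf_left _ (centralizer_le (Set.singleton_subset_iff.mpr (mem_zpowers f)))
    exact le_inf inf_le_left (hle.trans hfix)
  exact hcb (F.edge_of_pCore_le h hc hb hbc.symm (h.captured_pCore (F.node b hb) haL D hDX.mem
    ((le_centralizer_iff.mp hCD).trans (centralizer_le_normalizer _))))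

end Family

end Cfsg.Agent.SolvableSignalizer
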