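import Cfsg.Agent.Lib.SolvableSignalizer.ThreePrimes.Colours

/-!
An edge `u → w` into a terminal prime: lines and their colours in a plane avoiding `L w`.
-/

set_option autoImplicit false
set_option linter.style.haveILetI false
set_option linter.unusedSectionVars false

namespace Cfsg.Agent.SolvableSignalizer

open Subgroup
open Cfsg.Agent.Components
open scoped Pointwise

universe u

variable {G : Type u} [Group G] [Finite G] {r : ℕ} {A : Subgroup G} {θ : G → Subgroup G}
  {L : ℕ → Subgroup G}

/-- An edge `u → w` into a terminal prime and a plane whose `θ(E) ∩ W_w` is not in `L w`. -/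
structure EdgeData (r : ℕ) (A : Subgroup G) (θ : G → Subgroup G) (L : ℕ → Subgroup G) (u w : ℕ)
    (E H : Subgroup G) : Prop where
  edge : Edge r A θ L u w
  term : Terminal r A θ L w
  plane : IsPlane r A E
  mem : H ∈ Cfsg.signalizerFamily r A θ
  le_theta : H ≤ Cfsg.signalizerInf E θ
  le_wCore : H ≤ wCore r w A θ
  not_le : ¬ H ≤ L w

/-- A line centralising `O_u(L w)` or without fixed points on it. -/
def Special (L : ℕ → Subgroup G) (u w : ℕ) (e : G) : Prop :=
  Cfsg.pCoreOf u (L w) ⊓ centralizer {e} = ⊥ ∨ Cfsg.pCoreOf u (L w) ≤ centralizer {e}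

lemma le_centralizer_singleton {U : Subgroup G} {e : G} (hc : ⁅U, zpowers e⁆ = ⊥) :
    U ≤ centralizer ({e} : Set G) :=
  (le_centralizer_iff.mp (Coprime.commutator_eq_bot_iff_le_centralizer'.mp hc)).trans
    (centralizer_le (Set.singleton_subset_iff.mpr (mem_zpowers e)))

lemma zpowers_le_centralizer {U : Subgroup G} {e : G} (hc : U ≤ centralizer ({e} : Set G)) :
    zpowers e ≤ centralizer (U : Set G) :=
  zpowers_le.mpr (mem_centralizer_iff.mpr fun _ hz => mem_centralizer_singleton_iff.mp (hc hz))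

/-- An element of `A` centralising the Fitting subgroup of a node centralises the node. -/
lemma Minimal.centralizes_node (h : Minimal r A θ) {N : Subgroup G} (hN : IsNode r A θ N) {e : G}
    (he : e ∈ A) (hc : fitOf N ≤ centralizer ({e} : Set G)) : N ≤ centralizer ({e} : Set G) := by
  haveI := h.fact
  have hn : zpowers e ≤ normalizer (N : Set G) :=
    (zpowers_le.mpr he).trans (le_op_left.trans hN.isXA.norm)
  have hF := zpowers_le_centralizer hc
  refine (le_centralizer_iff.mp (Coprime.le_centralizer_of_series hn ?_ (Or.inr hN.mem.1) hF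
    (le_trans (le_inf (Coprime.commutator_le_of_le_normalizer hn)
      (commutator_le_centralizer_of_normalizes (le_normalizer.trans (normalizer_le_fitOf N)) hF))
      (inf_centralizer_fitOf_le hN.mem.1)))).trans
        (centralizer_le (Set.singleton_subset_iff.mpr (mem_zpowers e)))
  exact (Signalizer.coprime_member h.elem hN.mem.2.1).coprime_dvd_left
    (card_dvd_of_le (zpowers_le.mpr he))

namespace Family

variable (h : Minimal r A θ) (F : Family r A θ L)
include h F

theorem exists_edgeData {u w : ℕ} (e : Edge r A θ L u w) (ht : Terminal r A θ L w) :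
    ∃ E H, EdgeData r A θ L u w E H := by
  haveI := Fact.mk e.head.prime
  have hW := h.wCore_isXA (r := r) (A := A) (θ := θ) w
  obtain ⟨E, hE, hnot⟩ : ∃ E, IsPlane r A E ∧
      ¬ wCore r w A θ ⊓ centralizer (E : Set G) ≤ L w := by
    by_contra hc
    push Not at hc
    exact F.wCore_not_le_self h e.head (h.le_of_planes hW.mem hc)
  refine ⟨E, _, e, ht, hE, Signalizer.member_of_le hW.mem inf_le_left
    (le_normalizer_inf (le_op_left.trans hW.norm) ?_),
    Signalizer.member_inf_centralizer_le hW.mem hE.le, inf_le_left, hnot⟩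
  exact le_trans (fun b hb => mem_centralizer_iff.mpr fun c hc =>
    Hyperplane.mem_comm h.elem (hE.le hc) hb)
    ((centralizer_le_normalizer _).trans (normalizer_le_centralizer_normalizer _))

end Family

namespace EdgeData

variable (h : Minimal r A θ) (F : Family r A θ L) {u w : ℕ} {E H : Subgroup G}
  (D : EdgeData r A θ L u w E H)
include h F D

lemma inf_head_eq_bot : Cfsg.pCoreOf u (L w) ⊓ L u = ⊥ :=
  Minimal.pCore_inf_eq_bot (F.node u D.edge.tail).mem.1 D.edge.le D.edge.tail.prime
    (F.not_inFit_self h D.edge.tail)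

lemma bad : ¬ Cfsg.signalizerInf E θ ≤ L w := fun hle => D.not_le (D.le_theta.trans hle)

lemma colour_ne {e : G} (he : e ∈ E) (he1 : e ≠ 1) {K : Subgroup G} (hK : θ e ≤ K) : K ≠ L w :=
  fun e' => h.bad_line (D.bad h F) he he1 (e' ▸ hK)

lemma H_le_tail : H ≤ L u :=
  D.le_wCore.trans (F.wCore_le h D.edge.tail D.edge.head.prime D.edge.ne.symm)

lemma inFit_piece {x : ℕ} (hx : x.Prime) {U K : Subgroup G}
    (hU1 : U ≠ ⊥) (hUu : U ≤ Cfsg.pCoreOf x (L u)) (hUw : U ≤ Cfsg.pCoreOf x (L w))
    (hK : IsNode r A θ K) (hUK : U ≤ K) : InFit x K :=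
  by_contra fun hnot => hU1 (F.t_lemma h hK hx hnot D.edge.head hUw hUK
    (Or.inr ⟨u, D.edge.tail, D.edge.ne, hUu⟩))

/-- A special line centralises invariant pieces of `O_x(L u)` meeting `O_x(L w)`. -/
lemma centralizes_piece {x : ℕ} (hx : InPi r A θ x) (hxu : x ≠ u) {e : G}
    (he : e ∈ E) (hspec : Special L u w e) {B : Subgroup G} (hB : IsXA r A θ B)
    (hBR : B ≤ Cfsg.pCoreOf x (L u)) (hHB : H ≤ normalizer (B : Set G))
    (hBI : B ⊓ Cfsg.pCoreOf x (L w) ≠ ⊥) (hodd : x ≠ 2 ∨ IsMulCommutative B) :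
    B ≤ centralizer ({e} : Set G) := by
  haveI := h.fact
  haveI := Fact.mk hx.prime
  haveI := Fact.mk D.edge.tail.prime
  set A0 := Cfsg.pCoreOf u (L w)
  have heA := D.plane.le he
  have hn : zpowers e ≤ normalizer (B : Set G) :=
    (zpowers_le.mpr heA).trans (le_op_left.trans hB.norm)
  have hle : ⁅B, zpowers e⁆ ≤ B := Coprime.commutator_le_of_le_normalizer hn
  refine le_centralizer_singleton ?_
  by_contra hY1
  have hY : IsXA r A θ ⁅B, zpowers e⁆ :=
    hB.sub hle (le_normalizer_commutator hB.norm (h.op_le_normalizer_zpowers heA))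
  have hBw : B ≤ L w := hBR.trans (pCoreOf_le_of_fitOf_le D.edge.le hx.prime)
  have hBA0 : B ≤ normalizer (A0 : Set G) := hBw.trans (le_normalizer_pCoreOf u (L w))
  have hA0X := (F.node w D.edge.head).isXA.pCoreOf u
  have hYA0 : ⁅B, zpowers e⁆ ≤ centralizer (A0 : Set G) := by
    rcases hspec with hfpf | hfull
    · have hC : A0 ⊓ centralizer {e} ≤ centralizer (B : Set G) := hfpf.le.trans bot_le
      have hrx := h.inFit_ne hx.choose_spec.1.mem hx.choose_spec.2
      have hru := h.inFit_ne D.edge.tail.choose_spec.1.mem D.edge.tail.choose_spec.2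
      rcases hodd with hx2 | hab
      · exact commutator_le_centralizer_of_fixed (r := r) hrx hru hxu hx2 (h.elem.2 e heA)
          ((pCoreOf_isPGroup x (L u)).to_le hBR) (pCoreOf_isPGroup u (L w)) (hn (mem_zpowers e))
          (le_op_left.trans hA0X.norm heA) hBA0 hC
      · haveI := hab
        exact commutator_le_centralizer_of_fixed_abelian (r := r) hrx hru hxu (h.elem.2 e heA)
          ((pCoreOf_isPGroup x (L u)).to_le hBR) (pCoreOf_isPGroup u (L w)) (hn (mem_zpowers e))
          (le_op_left.trans hA0X.norm heA) hBA0 hC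
    · exact commutator_le_centralizer_of_normalizes hBA0 (zpowers_le_centralizer hfull)
  obtain ⟨N, hN, hNle⟩ := h.exists_node_normalizer hY hY1
  have hA0N : A0 ≤ N :=
    hNle A0 hA0X.mem ((le_centralizer_iff.mp hYA0).trans (centralizer_le_normalizer _))
  rcases F.piece_node h hx D.edge.tail hxu hY (hle.trans hBR) hN hNle with
    h1 | h1 | ⟨s, -, -, es, h1⟩
  · refine (F.inFit_head h D.edge).2 (le_bot_iff.mp ?_)
    rw [← D.inf_head_eq_bot h F]
    exact le_inf le_rfl (h1 ▸ hA0N)
  · subst h1
    have hI : IsXA r A θ (B ⊓ Cfsg.pCoreOf x (L w)) :=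
      hB.inf ((F.node w D.edge.head).isXA.pCoreOf x).norm
    have hU1 : (B ⊓ Cfsg.pCoreOf x (L w)) ⊓ centralizer (B : Set G) ≠ ⊥ :=
      inf_centralizer_ne_bot ((pCoreOf_isPGroup x (L w)).to_le inf_le_right)
        ((pCoreOf_isPGroup x (L u)).to_le hBR)
        (le_normalizer_inf le_normalizer (hBw.trans (le_normalizer_pCoreOf x (L w)))) hBI
    refine F.not_inFit_self h hx (D.inFit_piece h F hx.prime hU1 (inf_le_left.trans (inf_le_left.trans hBR))
      (inf_le_left.trans inf_le_right) hN ?_)
    exact hNle _ (hI.inf_centralizer hB.norm).mem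
      ((inf_le_right.trans (centralizer_le hle)).trans (centralizer_le_normalizer _))
  · obtain rfl := F.out_unique h es D.edge
    refine D.not_le (h1 ▸ hNle H D.mem (le_normalizer_commutator hHB ?_))
    exact D.le_theta.trans (h.plane_inf_le_normalizer_zpowers D.plane he)

/-- At most one line is special. -/
lemma special_unique {a b : G} (ha : a ∈ E) (ha1 : a ≠ 1) (hb : b ∈ E) (hsa : Special L u w a)
    (hsb : Special L u w b) : b ∈ zpowers a := by
  by_contra hba
  have hkey : ∀ d ∈ E, d ≠ 1 → ∀ x, InPi r A θ x → x ≠ u → x ≠ w → ∀ K, IsNode r A θ K →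
      θ d ≤ K → InFit x K := by
    intro d hd hd1 x hx hxu hxw K hK hKθ
    haveI := Fact.mk hx.prime
    set R := Cfsg.pCoreOf x (L u)
    set B := R ⊓ centralizer (R : Set G)
    have hRX := (F.node u D.edge.tail).isXA.pCoreOf x
    haveI : IsMulCommutative B := ⟨⟨fun a b => Subtype.ext (mem_centralizer_iff.mp b.2.2 a a.2.1)⟩⟩
    have hB : IsXA r A θ B := hRX.inf_centralizer hRX.norm
    have hHR : H ≤ normalizer (R : Set G) := (D.H_le_tail h F).trans (le_normalizer_pCoreOf x (L u))
    have hHB : H ≤ normalizer (B : Set G) :=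
      le_normalizer_inf hHR (hHR.trans (normalizer_le_centralizer_normalizer _))
    have hxLw := F.inFit_of_terminal h D.term hx hxw
    have hxLu := F.inFit_tail h D.edge hxLw hxu
    have hI := F.inf_ne_bot h D.edge hxLw hxLu
    have hBI : B ⊓ Cfsg.pCoreOf x (L w) ≠ ⊥ := by
      intro hbot
      refine inf_centralizer_ne_bot ((pCoreOf_isPGroup x (L w)).to_le inf_le_left)
        (pCoreOf_isPGroup x (L u))
        (le_normalizer_inf ((pCoreOf_le_of_fitOf_le D.edge.le hx.prime).trans
          (le_normalizer_pCoreOf x (L w))) le_normalizer) hI (le_bot_iff.mp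
          (le_trans (le_inf (le_inf (inf_le_left.trans inf_le_right) inf_le_right)
            (inf_le_left.trans inf_le_left)) hbot.le))
    have hBE := h.plane_centralizes D.plane ha ha1 hb hba
      (D.centralizes_piece h F hx hxu ha hsa hB inf_le_left hHB hBI (Or.inr inferInstance))
      (D.centralizes_piece h F hx hxu hb hsb hB inf_le_left hHB hBI (Or.inr inferInstance))
    refine D.inFit_piece h F hx.prime hBI (inf_le_left.trans inf_le_left) inf_le_right hK ?_
    refine le_trans (le_inf le_rfl ?_) (inf_centralizer_le_colour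
      (hB.inf ((F.node w D.edge.head).isXA.pCoreOf x).norm).mem (D.plane.le hd) hd1 hKθ)
    exact inf_le_left.trans (hBE.trans (centralizer_le (Set.singleton_subset_iff.mpr hd)))
  have hA0 := (F.node w D.edge.head).isXA.pCoreOf u
  refine (F.inFit_head h D.edge).2 (le_bot_iff.mp (h.le_of_plane D.plane hA0.mem fun d hd hd1 => ?_))
  obtain ⟨K, hK, hKθ⟩ := h.exists_colour (D.plane.le hd) hd1
  have hdK : Cfsg.pCoreOf u (L w) ⊓ centralizer {d} ≤ Cfsg.pCoreOf u (L w) ⊓ K :=
    le_inf inf_le_left (inf_centralizer_le_colour hA0.mem (D.plane.le hd) hd1 hKθ)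
  by_cases huK : InFit u K
  · obtain ⟨s, hs, hsK⟩ := F.exists_missing h hK
    have hsw : s = w := by
      by_contra hsw
      exact hsK (hkey d hd hd1 s hs (fun e => hsK (e ▸ huK)) hsw K hK hKθ)
    subst hsw
    refine absurd (F.eq_L h hK hs hsK fun q hq hqs => ?_) (D.colour_ne h F hd hd1 hKθ)
    by_cases hqu : q = u
    · exact hqu ▸ huK
    · exact hkey d hd hd1 q hq hqu hqs K hK hKθ
  refine hdK.trans (le_of_eq ?_)
  by_cases hwK : InFit w K
  · rw [F.eq_L h hK D.edge.tail huK fun q hq hqu => if hqw : q = w then hqw ▸ hwK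
      else hkey d hd hd1 q hq hqu hqw K hK hKθ]
    exact D.inf_head_eq_bot h F
  · exact F.t_lemma h hK D.edge.tail.prime huK D.edge.head inf_le_left inf_le_right (Or.inl hwK)

/-- Two lines in every plane: one of them is not special. -/
lemma exists_not_special : ∃ e ∈ E, e ≠ 1 ∧ ¬ Special L u w e := by
  by_contra hc
  push Not at hc
  obtain ⟨a, ha, ha1⟩ := h.plane_ne_one D.plane
  obtain ⟨b, hb, hba⟩ := h.exists_off_line D.plane a ha
  exact hba (D.special_unique h F ha ha1 hb (hc a ha ha1)
    (hc b hb fun e => hba (e ▸ one_mem _)))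

lemma meet_ne_bot {e : G} (he : e ∈ E) (he1 : e ≠ 1) (hns : ¬ Special L u w e) {K : Subgroup G}
    (hKθ : θ e ≤ K) : Cfsg.pCoreOf u (L w) ⊓ K ≠ ⊥ := fun hbot =>
  hns (Or.inl (le_bot_iff.mp ((le_inf inf_le_left (inf_centralizer_le_colour
    ((F.node w D.edge.head).isXA.pCoreOf u).mem (D.plane.le he) he1 hKθ)).trans hbot.le)))

/-- An odd `u` in the colour: the line centralises `O_u` of the colour. -/
lemma centralizes_colour (hu2 : u ≠ 2) {e : G} (he : e ∈ E) (he1 : e ≠ 1) {K : Subgroup G}
    (hK : IsNode r A θ K) (hKθ : θ e ≤ K) (huK : InFit u K) :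
    Cfsg.pCoreOf u K ≤ centralizer ({e} : Set G) := by
  haveI := h.fact
  haveI := Fact.mk D.edge.tail.prime
  have heA := D.plane.le he
  set B := Cfsg.pCoreOf u K
  have hB : IsXA r A θ B := hK.isXA.pCoreOf u
  have hn : zpowers e ≤ normalizer (B : Set G) :=
    (zpowers_le.mpr heA).trans (le_op_left.trans hB.norm)
  have hle : ⁅B, zpowers e⁆ ≤ B := Coprime.commutator_le_of_le_normalizer hn
  refine le_centralizer_singleton ?_
  by_contra hY1
  have hY : IsXA r A θ ⁅B, zpowers e⁆ :=
    hB.sub hle (le_normalizer_commutator hB.norm (h.op_le_normalizer_zpowers heA))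
  set M := L w
  have hM := F.node w D.edge.head
  have hBM : B ≤ M := F.pCore_le h hK.isXA D.edge.head D.edge.tail.prime D.edge.ne
  have hcent : ∀ t, InFit t M → t ≠ u →
      ⁅B, zpowers e⁆ ≤ centralizer ((Cfsg.pCoreOf t M : Subgroup G) : Set G) := by
    intro t ht htu
    haveI := Fact.mk ht.1
    refine commutator_le_centralizer_of_fixed (r := r) (h.inFit_ne hK.mem huK)
      (h.inFit_ne hM.mem ht) (Ne.symm htu) hu2 (h.elem.2 e heA) (pCoreOf_isPGroup u K)
      (pCoreOf_isPGroup t M) (hn (mem_zpowers e)) (le_op_left.trans (hM.isXA.pCoreOf t).norm heA)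
      (hBM.trans (le_normalizer_pCoreOf t M)) ?_
    exact le_centralizer_of_mutual (X := M) (Y := K) ht.1 D.edge.tail.prime htu inf_le_left le_rfl
      (inf_centralizer_le_colour (hM.isXA.pCoreOf t).mem heA he1 hKθ) hBM
  obtain ⟨N, hN, hNle⟩ := h.exists_node_normalizer hY hY1
  have hfix : Cfsg.pCoreOf u M ⊓ N ≠ ⊥ := by
    intro hbot
    refine inf_centralizer_ne_bot (pCoreOf_isPGroup u M) ((pCoreOf_isPGroup u K).to_le hle)
      ((hle.trans hBM).trans (le_normalizer_pCoreOf u M)) (F.inFit_head h D.edge).2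
      (le_bot_iff.mp (le_trans (le_inf inf_le_left ?_) hbot.le))
    exact hNle _ ((hM.isXA.pCoreOf u).inf_centralizer hY.norm).mem
      (inf_le_right.trans (centralizer_le_normalizer _))
  have hothers : ∀ x, InPi r A θ x → x ≠ u → x ≠ w → InFit x N := by
    intro x hx hxu hxw
    have hxLw := F.inFit_of_terminal h D.term hx hxw
    refine D.inFit_piece h F hx.prime (F.inf_ne_bot h D.edge hxLw (F.inFit_tail h D.edge hxLw hxu))
      inf_le_right inf_le_left hN (inf_le_left.trans ?_)
    exact hNle _ (hM.isXA.pCoreOf x).mem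
      ((le_centralizer_iff.mp (hcent x hxLw hxu)).trans (centralizer_le_normalizer _))
  obtain ⟨s, hs, hsN⟩ := F.exists_missing h hN
  by_cases huN : InFit u N
  · have hsw : s = w := by_contra fun hsw => hsN (hothers s hs (fun e => hsN (e ▸ huN)) hsw)
    subst hsw
    have hNs : N = L s := F.eq_L h hN hs hsN fun q hq hqs =>
      if hqu : q = u then hqu ▸ huN else hothers q hq hqu hqs
    refine D.not_le (hNs ▸ hNle H D.mem (le_normalizer_commutator ?_
      (D.le_theta.trans (h.plane_inf_le_normalizer_zpowers D.plane he))))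
    exact ((D.le_theta.trans (Signalizer.inf_le_theta E θ he he1)).trans hKθ).trans
      (le_normalizer_pCoreOf u K)
  · by_cases hwN : InFit w N
    · have hNu : N = L u := F.eq_L h hN D.edge.tail huN fun q hq hqu =>
        if hqw : q = w then hqw ▸ hwN else hothers q hq hqu hqw
      exact hfix (hNu ▸ D.inf_head_eq_bot h F)
    · exact hfix (Minimal.pCore_inf_eq_bot hN.mem.1
        (F.fit_le_of_missing h hN D.edge.head hwN) D.edge.tail.prime huN)

/-- If moreover `F(K) ≤ L w` then the line centralises `O_u(L w)`. -/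
lemma full_of_fit_le (hu2 : u ≠ 2) {e : G} (he : e ∈ E) (he1 : e ≠ 1) {K : Subgroup G}
    (hK : IsNode r A θ K) (hKθ : θ e ≤ K) (huK : InFit u K) (hFK : fitOf K ≤ L w) :
    Special L u w e := by
  haveI := h.fact
  haveI := Fact.mk D.edge.tail.prime
  have heA := D.plane.le he
  have hBe := zpowers_le_centralizer (D.centralizes_colour h F hu2 he he1 hK hKθ huK)
  set P := Cfsg.pCoreOf u (L w)
  have hM := F.node w D.edge.head
  have hPK : P ≤ K := h.pCore_le_of_fit_le F.pure hK hM hFK huK
  have hPn : zpowers e ≤ normalizer (P : Set G) :=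
    (zpowers_le.mpr heA).trans (le_op_left.trans (hM.isXA.pCoreOf u).norm)
  have hPf : ⁅P, zpowers e⁆ ≤ P := Coprime.commutator_le_of_le_normalizer hPn
  have hPB : ⁅P, zpowers e⁆ ≤ Cfsg.pCoreOf u K := by
    refine pgroup_fitOf_le (fun z hz => inf_centralizer_fitOf_le hK.mem.1 ⟨hPK (hPf hz),
      centralizer_fitOf_of_forall fun q hq => ?_⟩) ((pCoreOf_isPGroup u _).to_le hPf)
    by_cases hqu : q = u
    · subst hqu
      exact commutator_le_centralizer_of_normalizes (hPK.trans (le_normalizer_pCoreOf q K)) hBe hz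
    · exact le_centralizer_of_mutual (X := L w) (Y := K) D.edge.tail.prime hq (Ne.symm hqu)
        le_rfl le_rfl hPK (pCoreOf_le_of_fitOf_le hFK hq) (hPf hz)
  have hcop : (Nat.card (zpowers e)).Coprime (Nat.card P) :=
    IsPGroup.coprime_card_of_ne r u (h.inFit_ne hK.mem huK) (zpowers e) P
      (Hyperplane.zpowers_isPGroup h.elem heA) (pCoreOf_isPGroup u (L w))
  exact Or.inr ((le_centralizer_iff.mp (Coprime.le_centralizer_of_series hPn hcop
    (Or.inl (Coprime.isSolvable_of_isMulCommutative _)) (hBe.trans (centralizer_le hPB)) le_rfl)).trans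
      (centralizer_le (Set.singleton_subset_iff.mpr (mem_zpowers e))))

end EdgeData

end Cfsg.Agent.SolvableSignalizer
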