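import Cfsg.Agent.Lib.SolvableSignalizer.ThreePrimes.EdgeBase

/-!
An edge is impossible when there are four or more primes.
-/

set_option autoImplicit false
set_option linter.style.haveILetI false
set_option linter.unusedSectionVars false

namespace Cfsg.Agent.SolvableSignalizer

open Subgroup
open Cfsg.Agent.Components
open scoped Pointwise

universe u

variable {G : Type u} [Group G] [Finite G] {r : ℕ} {A : Subgroup G} {θ : G → Subgroup G}
  {L : ℕ → Subgroup G}

namespace Family

variable (h : Minimal r A θ) (F : Family r A θ L)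
include h F

/-- `O_w(K) ≤ L w` if a captured piece of another core commutes with it. -/
lemma core_le_head {z w q : ℕ} (ez : Edge r A θ L z w) (hqz : q ≠ z) (hqL : InFit q (L w))
    {K : Subgroup G} (hK : IsNode r A θ K) (hqK : InFit q K) : Cfsg.pCoreOf w K ≤ L w := by
  haveI := Fact.mk hqK.1
  obtain ⟨U, hU, -, hUz, -, hUW, hUc⟩ := F.exists_captured h ez hqz hqL
  have hqw : q ≠ w := fun e => F.not_inFit_self h ez.head (e ▸ hqL)
  have hUK : U ≤ K := h.le_node_of_normalizes_pCore hK hqK hU.mem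
    ((hUW.trans (centralizer_le (h.pCoreOf_le_wCore hK.isXA))).trans (centralizer_le_normalizer _))
  refine hUc _ (hK.isXA.pCoreOf w).mem (le_trans ?_ (centralizer_le_normalizer _))
  exact le_centralizer_of_mutual (X := K) (Y := L z) ez.head.prime hqK.1 hqw.symm le_rfl hUz
    (F.pCore_le h hK.isXA ez.tail ez.head.prime ez.ne.symm) hUK

theorem no_edge_four (h4 : ∀ a b c, ∃ x, InPi r A θ x ∧ x ≠ a ∧ x ≠ b ∧ x ≠ c) {u₀ w : ℕ}
    (e₀ : Edge r A θ L u₀ w) : False := by
  haveI := h.fact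
  have hterm : Terminal r A θ L w := ⟨e₀.head, fun z e' => by
    obtain ⟨x, hx, h1, h2, h3⟩ := h4 u₀ w z
    exact F.no_path h e₀ e' hx h1 h2 h3⟩
  have hstar : ∀ z, InPi r A θ z → z ≠ w → Edge r A θ L z w := fun z hz hzw => by
    by_cases hzu : z = u₀
    · exact hzu ▸ e₀
    obtain ⟨x, hx, h1, h2, h3⟩ := h4 u₀ w z
    exact F.edge_into_head h e₀ hz hzw h1 h3 (F.inFit_of_terminal h hterm hx h2)
  obtain ⟨u, hu, hu2, huw⟩ := F.three 2 w
  have e := hstar u hu huw
  obtain ⟨E, H, D⟩ := F.exists_edgeData h e hterm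
  obtain ⟨f, hf, hf1, hns⟩ := D.exists_not_special h F
  obtain ⟨K, hK, hKθ⟩ := h.exists_colour (D.plane.le hf) hf1
  have hmeet := D.meet_ne_bot h F hf hf1 hns hKθ
  haveI := Fact.mk e.head.prime
  haveI := Fact.mk hu.prime
  have hfit : ∀ q, InFit q K → q ≠ w → fitOf K ≤ L w := fun q hq hqw => by
    have hqPi : InPi r A θ q := ⟨K, hK, hq⟩
    obtain ⟨z, hz, hzq, hzw⟩ := F.three q w
    refine fitOf_le_of_inFit fun t ht => ?_
    by_cases htw : t = w
    · exact htw ▸ F.core_le_head h (hstar z hz hzw) hzq.symm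
        (F.inFit_of_terminal h hterm hqPi hqw) hK hq
    · exact F.pCore_le h hK.isXA e.head ht.1 htw
  by_cases huK : InFit u K
  · exact hns (D.full_of_fit_le h F hu2 hf hf1 hK hKθ huK (hfit u huK e.ne))
  by_cases hex : ∃ q, InFit q K ∧ q ≠ w
  · obtain ⟨q, hq, hqw⟩ := hex
    exact hmeet (Minimal.pCore_inf_eq_bot hK.mem.1 (hfit q hq hqw) hu.prime huK)
  push Not at hex
  set P := Cfsg.pCoreOf w K
  set M := L w
  set T := Cfsg.pCoreOf u M ⊓ K
  have hM := F.node w e.head
  have hTX : IsXA r A θ T := (hM.isXA.pCoreOf u).inf hK.isXA.norm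
  have hPK : Pure w K := by
    obtain ⟨q, hq⟩ := h.node_exists_inFit hK
    exact ⟨hex q hq ▸ hq, hex⟩
  obtain ⟨z, hz, hzu, hzw⟩ := F.three u w
  obtain ⟨x, hx, hxu, hxz, hxw⟩ := h4 u z w
  have ez := hstar z hz hzw
  haveI := Fact.mk hx.prime
  obtain ⟨U, hU, -, hUz, -, -, hUc⟩ := F.exists_captured h ez hxz (F.inFit_of_terminal h hterm hx hxw)
  have hPz : P ≤ L z := F.pCore_le h hK.isXA hz e.head.prime hzw.symm
  have hTz : T ≤ L z := inf_le_left.trans (F.pCore_le h hM.isXA hz hu.prime hzu.symm)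
  have hTn : T ≤ normalizer (P : Set G) := inf_le_right.trans (le_normalizer_pCoreOf w K)
  have hTR : T ≤ centralizer ((Cfsg.pCoreOf x (L z) : Subgroup G) : Set G) :=
    le_centralizer_of_mutual (X := L w) (Y := L z) hu.prime hx.prime hxu.symm inf_le_left le_rfl hTz
      (pCoreOf_le_of_fitOf_le ez.le hx.prime)
  have hPT : ⁅P, T⁆ ≤ P := Coprime.commutator_le_of_le_normalizer hTn
  have hPTM : ⁅P, T⁆ ≤ M := by
    refine hUc _ (Signalizer.member_of_le (hK.isXA.pCoreOf w).mem hPT
      (le_op_left.trans (le_normalizer_commutator (hK.isXA.pCoreOf w).norm hTX.norm)))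
      (le_trans ?_ (centralizer_le_normalizer _))
    exact (commutator_le_centralizer_of_normalizes (hPz.trans (le_normalizer_pCoreOf x (L z))) hTR).trans
      (centralizer_le hUz)
  have hPT2 : ⁅⁅P, T⁆, T⁆ = ⊥ :=
    commutator_eq_bot_iff_le_centralizer.mpr (le_centralizer_of_mutual (X := K) (Y := M) e.head.prime
      hu.prime e.ne.symm hPT inf_le_left hPTM inf_le_right)
  have hcop : (Nat.card T).Coprime (Nat.card P) :=
    IsPGroup.coprime_card_of_ne u w e.ne T P ((pCoreOf_isPGroup u M).to_le inf_le_left)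
      (pCoreOf_isPGroup w K)
  refine hmeet (le_bot_iff.mp ((le_inf ?_ (Coprime.le_centralizer_of_commutator_commutator_eq_bot hTn
    hcop (Or.inr (Coprime.isSolvable_of_isPGroup (pCoreOf_isPGroup w K))) hPT2)).trans
      (inf_centralizer_fitOf_eq_bot hK.mem.1 hPK hu.prime e.ne
        ((pCoreOf_isPGroup u M).to_le inf_le_left) inf_le_right).le))
  exact le_rfl

end Family

end Cfsg.Agent.SolvableSignalizer
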