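import Cfsg.Agent.Lib.SolvableSignalizer.ThreePrimes.Setup

/-!
With three or more primes every node lacks a prime.
-/

set_option autoImplicit false
set_option linter.style.haveILetI false
set_option linter.unusedSectionVars false

namespace Cfsg.Agent.SolvableSignalizer

open Subgroup
open Cfsg.Agent.Components
open scoped Pointwise

universe u

variable {G : Type u} [Group G] [Finite G] {r : ℕ} {A : Subgroup G} {θ : G → Subgroup G}

lemma le_normalizer_iSup {ι : Sort*} {H : Subgroup G} (f : ι → Subgroup G)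
    (hf : ∀ i, H ≤ normalizer (f i : Set G)) :
    H ≤ normalizer ((⨆ i, f i : Subgroup G) : Set G) := by
  intro g hg
  rw [← Coprime.conj_smul_eq_self_iff, Coprime.conj_smul_eq_map, Subgroup.map_iSup]
  refine iSup_congr fun i => ?_
  rw [← Coprime.conj_smul_eq_map]
  exact Coprime.conj_smul_eq_self_iff.mpr (hf i hg)

namespace Family

variable {L : ℕ → Subgroup G} (h : Minimal r A θ) (F : Family r A θ L) {M : Subgroup G}
  (FM : IsFull r A θ M) (hall : ∀ q, InPi r A θ q → InFit q M)
include h F FM hall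

lemma pCore_L_le {v q : ℕ} (hv : InPi r A θ v) (hne : q ≠ v) (hq : q.Prime) :
    Cfsg.pCoreOf q (L v) ≤ M := by
  by_cases hqv : InFit q (L v)
  · obtain ⟨t, ht, htq, htv⟩ := F.three q v
    have hqM := hall q ⟨L v, F.node v hv, hqv⟩
    exact h.pCore_le_of_pair hq ht.prime htq.symm (F.node v hv) (FM.node.isXA.pCoreOf q) le_rfl
      (h.captured_pCore FM.node hqM) le_rfl (h.captured_pCore FM.node (hall t ht))
      (F.pCore_le h FM.node.isXA hv hq hne) (F.pCore_le h FM.node.isXA hv ht.prime htv)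
  · exact (pCoreOf_eq_bot_of_not hq hqv).le.trans bot_le

lemma fit_L_le_of {v : ℕ} (hv : InPi r A θ v) (hself : Cfsg.pCoreOf v (L v) ≤ M) :
    fitOf (L v) ≤ M :=
  fitOf_le_of_forall fun q hq => by
    by_cases hqv : q = v
    · exact hqv ▸ hself
    · exact F.pCore_L_le h FM hall hv hqv hq

lemma inFit_L_of {v q : ℕ} (hv : InPi r A θ v) (hq : InPi r A θ q) (hne : q ≠ v)
    (hle : fitOf (L v) ≤ M) : InFit q (L v) := by
  by_contra hnot
  have := Minimal.pCore_inf_eq_bot (L := M) (F.node v hv).mem.1 hle hq.prime hnot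
  rw [inf_eq_left.mpr (F.pCore_le h FM.node.isXA hv hq.prime hne)] at this
  exact (hall q hq).2 this

lemma self_le {v : ℕ} (hv : InPi r A θ v) : Cfsg.pCoreOf v (L v) ≤ M := by
  haveI := Fact.mk hv.prime
  by_contra hR
  set R := Cfsg.pCoreOf v (L v)
  have hRX : IsXA r A θ R := (F.node v hv).isXA.pCoreOf v
  by_cases hcase : ∃ x, InPi r A θ x ∧ x ≠ v ∧ Cfsg.pCoreOf x (L x) ≤ M
  · obtain ⟨x, hx, hxv, hxM⟩ := hcase
    have hF := F.fit_L_le_of h FM hall hx hxM
    obtain ⟨q, hq, hqv, hqx⟩ := F.three v x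
    have hqM := hall q hq
    have hJ := pCore_inf_pCore_ne_bot hqM (F.node x hx).mem.1 hF
      (F.pCore_le h FM.node.isXA hx hq.prime hqx)
    refine hR (FM.captured_of_le h F.pure ((FM.node.isXA.pCoreOf q).inf
      ((F.node x hx).isXA.pCoreOf q).norm) hJ inf_le_left hqM R hRX.mem
      (le_trans ?_ (centralizer_le_normalizer _)))
    exact (le_centralizer_of_mutual (X := L v) (Y := L x) hv.prime hq.prime hqv.symm le_rfl le_rfl
      (F.pCore_le h (F.node v hv).isXA hx hv.prime hxv.symm)
      (F.pCore_le h (F.node x hx).isXA hv hq.prime hqv)).trans (centralizer_le inf_le_right)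
  · push Not at hcase
    obtain ⟨x, hxL, hxv⟩ : ∃ x, InFit x (L v) ∧ x ≠ v := by
      by_contra hc
      push Not at hc
      obtain ⟨x, hx⟩ := h.node_exists_inFit (F.node v hv)
      exact F.wCore_not_le_self h hv (F.pure.le v (L v) (F.node v hv) ⟨hc x hx ▸ hx, hc⟩)
    have hx : InPi r A θ x := ⟨L v, F.node v hv, hxL⟩
    haveI := Fact.mk hx.prime
    have hR2 := hcase x hx hxv
    have hxLx : InFit x (L x) := ⟨hx.prime, fun e => hR2 (e ▸ bot_le)⟩
    have hvM := hall v hv
    set T := Cfsg.pCoreOf x (L v)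
    set V := Cfsg.pCoreOf v (L x)
    set Pv := Cfsg.pCoreOf v M
    have hTM : T ≤ M := F.pCore_L_le h FM hall hv hxv hx.prime
    have hVM : V ≤ M := F.pCore_L_le h FM hall hx hxv.symm hv.prime
    have hV0 : V ⊓ Pv = ⊥ := by
      by_contra hne
      refine hR2 (FM.captured_of_le h F.pure (((F.node x hx).isXA.pCoreOf v).inf
        (FM.node.isXA.pCoreOf v).norm) hne inf_le_right hvM _ ((F.node x hx).isXA.pCoreOf x).mem
        (le_trans ?_ (centralizer_le_normalizer _)))
      exact (pCoreOf_le_centralizer hx.prime hv.prime hxv _).trans (centralizer_le inf_le_left)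
    have hPvLx : Pv ≤ L x := F.pCore_le h FM.node.isXA hx hv.prime hxv.symm
    have hVPv : V ≤ centralizer (Pv : Set G) := by
      rw [← commutator_eq_bot_iff_le_centralizer, ← le_bot_iff, ← hV0]
      refine le_inf (Coprime.commutator_le_of_le_normalizer
        (hPvLx.trans (le_normalizer_pCoreOf v (L x)))) ?_
      rw [commutator_comm]
      exact Coprime.commutator_le_of_le_normalizer (hVM.trans (le_normalizer_pCoreOf v M))
    set W := wCore r x A θ
    have hWX := h.wCore_isXA x
    have hWv : W ≤ L v := F.wCore_le h hv hx.prime hxv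
    have hTX : IsXA r A θ T := (F.node v hv).isXA.pCoreOf x
    set J := T ⊓ centralizer (W : Set G)
    have hJX : IsXA r A θ J := hTX.inf_centralizer hWX.norm
    have hJ1 : J ≠ ⊥ := inf_centralizer_ne_bot (pCoreOf_isPGroup x _) (h.wCore_isPGroup x)
      (hWv.trans (le_normalizer_pCoreOf x (L v))) hxL.2
    have hJx : J ≤ centralizer ((Cfsg.pCoreOf x (L x) : Subgroup G) : Set G) :=
      inf_le_right.trans (centralizer_le (h.pCoreOf_le_wCore (F.node x hx).isXA))
    have hJLx : J ≤ L x := h.le_node_of_normalizes_pCore (F.node x hx) hxLx hJX.mem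
      (hJx.trans (centralizer_le_normalizer _))
    have hJM : J ≤ M := inf_le_left.trans hTM
    have hTq : ∀ q : ℕ, q.Prime → q ≠ x → q ≠ v →
        J ≤ centralizer ((Cfsg.pCoreOf q M : Subgroup G) : Set G) := fun q hq hqx hqv =>
      inf_le_left.trans (le_centralizer_of_mutual (X := L v) (Y := M) hx.prime hq (Ne.symm hqx)
        le_rfl le_rfl hTM (F.pCore_le h FM.node.isXA hv hq hqv))
    have hVJ : ⁅V, J⁆ = ⊥ := by
      have hle : ⁅V, J⁆ ≤ V :=
        Coprime.commutator_le_of_le_normalizer (hJLx.trans (le_normalizer_pCoreOf v (L x)))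
      have hVn : ∀ q, V ≤ normalizer ((Cfsg.pCoreOf q M : Subgroup G) : Set G) := fun q =>
        hVM.trans (le_normalizer_pCoreOf q M)
      have hC : ⁅V, J⁆ ≤ fitOf M := fun z hz => inf_centralizer_fitOf_le FM.node.mem.1
        ⟨hVM (hle hz), centralizer_fitOf_of_forall fun q hq => by
          by_cases hqv : q = v
          · subst hqv
            rw [commutator_comm] at hz
            exact commutator_le_centralizer_of_normalizes
              (hJM.trans (le_normalizer_pCoreOf q M)) hVPv hz
          by_cases hqx : q = x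
          · subst hqx
            exact commutator_le_centralizer_of_normalizes (hVn q)
              (inf_le_right.trans (centralizer_le (h.pCoreOf_le_wCore FM.node.isXA))) hz
          exact commutator_le_centralizer_of_normalizes (hVn q) (hTq q hq hqx hqv) hz⟩
      refine le_bot_iff.mp (hV0 ▸ le_inf hle ?_)
      exact pgroup_fitOf_le hC ((pCoreOf_isPGroup v (L x)).to_le hle)
    have hJR2 : J ≤ Cfsg.pCoreOf x (L x) := by
      refine pgroup_fitOf_le (fun z hz => inf_centralizer_fitOf_le (F.node x hx).mem.1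
        ⟨hJLx hz, centralizer_fitOf_of_forall fun q hq => ?_⟩)
        ((pCoreOf_isPGroup x _).to_le inf_le_left)
      by_cases hqx : q = x
      · subst hqx
        exact hJx hz
      by_cases hqv : q = v
      · subst hqv
        exact Coprime.commutator_eq_bot_iff_le_centralizer'.mp hVJ hz
      exact le_centralizer_of_mutual (X := L v) (Y := L x) hx.prime hq (Ne.symm hqx)
        (inf_le_left : J ≤ T) le_rfl hJLx (F.pCore_le h (F.node x hx).isXA hv hq hqv) hz
    refine hR (FM.captured_of_centralizes h F.pure hJX hJ1 ((pCoreOf_isPGroup x _).to_le inf_le_left)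
      hJM (fun t ht htx => ?_) R hRX.mem (le_trans ?_ (centralizer_le_normalizer _)))
    · by_cases htv : t = v
      · subst htv
        exact le_centralizer_of_mutual (X := L x) (Y := M) hx.prime ht.1 hxv hJR2 le_rfl hJM hPvLx
      · exact hTq t ht.1 htx htv
    · exact (pCoreOf_le_centralizer hv.prime hx.prime hxv.symm _).trans (centralizer_le inf_le_left)

lemma wCore_le_full {v : ℕ} (hv : InPi r A θ v) : wCore r v A θ ≤ M := by
  haveI := Fact.mk hv.prime
  let ι := {i : ℕ × ℕ // i.1.Prime ∧ InPi r A θ i.2 ∧ i.1 ≠ v ∧ i.1 ≠ i.2 ∧ v ≠ i.2}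
  set S : Subgroup G := ⨆ i : ι, Cfsg.pCoreOf i.1.1 (L i.1.2)
  set W := wCore r v A θ
  set Pv := Cfsg.pCoreOf v M
  have hvM := hall v hv
  have hWX := h.wCore_isXA v
  have hfit : ∀ q, InPi r A θ q → fitOf (L q) ≤ M := fun q hq =>
    F.fit_L_le_of h FM hall hq (F.self_le h FM hall hq)
  have hSW : W ≤ normalizer (S : Set G) := le_normalizer_iSup _ fun i =>
    (F.wCore_le h i.2.2.1 hv.prime i.2.2.2.2.2).trans (le_normalizer_pCoreOf _ _)
  have hSop : op A θ ≤ normalizer (S : Set G) := le_normalizer_iSup _ fun i =>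
    ((F.node _ i.2.2.1).isXA.pCoreOf i.1.1).norm
  have hPvS : Pv ≤ centralizer (S : Set G) := by
    rw [le_centralizer_iff]
    refine iSup_le fun i => ?_
    exact le_centralizer_of_mutual (X := L i.1.2) (Y := M) i.2.1 hv.prime i.2.2.2.1 le_rfl le_rfl
      (pCoreOf_le_of_fitOf_le (hfit _ i.2.2.1) i.2.1)
      (F.pCore_le h FM.node.isXA i.2.2.1 hv.prime i.2.2.2.2.2)
  set D := W ⊓ centralizer (S : Set G)
  have hD : IsXA r A θ D := hWX.inf_centralizer hSop
  have hPvD : Pv ≤ D := le_inf (h.pCoreOf_le_wCore FM.node.isXA) hPvS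
  have hU1 : D ⊓ centralizer (W : Set G) ≠ ⊥ :=
    inf_centralizer_ne_bot ((h.wCore_isPGroup v).to_le inf_le_left) (h.wCore_isPGroup v)
      (le_normalizer_inf le_normalizer (hSW.trans (normalizer_le_centralizer_normalizer S)))
      fun e => hvM.2 (le_bot_iff.mp (hPvD.trans e.le))
  set U := D ⊓ centralizer (W : Set G)
  have hUX : IsXA r A θ U := hD.inf_centralizer hWX.norm
  obtain ⟨N, hN, hNle⟩ := h.exists_node_normalizer hUX hU1
  have hWN : W ≤ N :=
    hNle W hWX.mem ((le_centralizer_iff.mp inf_le_right).trans (centralizer_le_normalizer _))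
  suffices hNM : N = M from hNM ▸ hWN
  refine FM.eq_of_meets h F.pure hN fun t ht hbot => ?_
  by_cases htv : t = v
  · subst htv
    rw [inf_eq_left.mpr ((h.pCoreOf_le_wCore FM.node.isXA).trans hWN)] at hbot
    exact hvM.2 hbot
  · have htPi : InPi r A θ t := ⟨M, FM.node, ht⟩
    obtain ⟨w, hw, hwv, hwt⟩ := F.three v t
    haveI := Fact.mk ht.1
    have hI := pCore_inf_pCore_ne_bot ht (F.node w hw).mem.1 (hfit w hw)
      (F.pCore_le h FM.node.isXA hw ht.1 hwt.symm)
    refine hI (le_bot_iff.mp (le_trans (le_inf inf_le_left ?_) hbot.le))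
    refine hNle _ ((FM.node.isXA.pCoreOf t).inf ((F.node w hw).isXA.pCoreOf t).norm).mem
      (le_trans ?_ (centralizer_le_normalizer _))
    have hle : Cfsg.pCoreOf t (L w) ≤ S :=
      le_iSup_of_le (⟨(t, w), ht.1, hw, htv, hwt.symm, hwv.symm⟩ : ι) le_rfl
    exact (inf_le_right.trans hle).trans (le_centralizer_iff.mp (inf_le_left.trans inf_le_right))

end Family

/-- Every node lacks a prime. -/
theorem Family.exists_missing {L : ℕ → Subgroup G} (h : Minimal r A θ) (F : Family r A θ L)
    {M : Subgroup G} (hM : IsNode r A θ M) : ∃ s, InPi r A θ s ∧ ¬ InFit s M := by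
  by_contra hc
  push Not at hc
  obtain ⟨a, ha, -, -⟩ := F.three 0 0
  obtain ⟨b, hb, hba, -⟩ := F.three a a
  have FM : IsFull r A θ M :=
    ⟨hM, fun N hN s hs => hc s ⟨N, hN, hs⟩, b, a, hc b hb, hc a ha, hba⟩
  obtain ⟨q, hq, hnot⟩ := F.exists_wCore_not_le h hM
  exact hnot (F.wCore_le_full h FM hc hq)

end Cfsg.Agent.SolvableSignalizer
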