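import Cfsg.Agent.Lib.SolvableSignalizer.Hub
import Cfsg.Agent.Lib.SolvableSignalizer.Full

/-!
For each prime `v` a node containing all invariant members of order prime to `v`.
-/

set_option autoImplicit false
set_option linter.style.haveILetI false
set_option linter.unusedSectionVars false

namespace Cfsg.Agent.SolvableSignalizer

open Subgroup
open Cfsg.Agent.Components
open scoped Pointwise

universe u

variable {G : Type u} [Group G] {r : ℕ} {A : Subgroup G} {θ : G → Subgroup G}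

/-- `q` divides the Fitting subgroup of some node. -/
def InPi (r : ℕ) (A : Subgroup G) (θ : G → Subgroup G) (q : ℕ) : Prop :=
  ∃ N, IsNode r A θ N ∧ InFit q N

lemma InPi.prime {q : ℕ} (hq : InPi r A θ q) : q.Prime := by
  obtain ⟨N, -, hN⟩ := hq
  exact hN.1

/-- A choice of the nodes `L v`, with at least three primes around. -/
structure Family (r : ℕ) (A : Subgroup G) (θ : G → Subgroup G) (L : ℕ → Subgroup G) : Prop where
  pure : PureFacts r A θ
  node : ∀ v, InPi r A θ v → IsNode r A θ (L v)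
  le : ∀ v, InPi r A θ v → ∀ V, IsXA r A θ V → ¬ v ∣ Nat.card V → V ≤ L v
  three : ∀ a b, ∃ c, InPi r A θ c ∧ c ≠ a ∧ c ≠ b

variable [Finite G]

lemma not_dvd_of_isPGroup {u v : ℕ} (hu : u.Prime) (hv : v.Prime) (hne : u ≠ v) {U : Subgroup G}
    (hU : IsPGroup u U) : ¬ v ∣ Nat.card U := by
  haveI := Fact.mk hu
  obtain ⟨k, hk⟩ := hU.exists_card_eq
  rw [hk]
  exact fun hd => hne ((Nat.prime_dvd_prime_iff_eq hv hu).mp (hv.dvd_of_dvd_pow hd)).symm

lemma pCoreOf_eq_bot_of_not {q : ℕ} {M : Subgroup G} (hq : q.Prime) (hnot : ¬ InFit q M) :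
    Cfsg.pCoreOf q M = ⊥ := by
  by_contra hne
  exact hnot ⟨hq, hne⟩

lemma fitOf_le_of_inFit {M L : Subgroup G} (h : ∀ q, InFit q M → Cfsg.pCoreOf q M ≤ L) :
    fitOf M ≤ L :=
  fitOf_le_of_forall fun q hq => by
    by_cases hqM : InFit q M
    · exact h q hqM
    · exact (pCoreOf_eq_bot_of_not hq hqM).le.trans bot_le

/-- `L` exists. -/
theorem exists_family (h : Minimal r A θ) (hp : PureFacts r A θ)
    (h3 : ∀ a b, ∃ c, InPi r A θ c ∧ c ≠ a ∧ c ≠ b) : ∃ L, Family r A θ L := by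
  have : ∀ v : ℕ, ∃ N, InPi r A θ v → IsNode r A θ N ∧
      ∀ V, IsXA r A θ V → ¬ v ∣ Nat.card V → V ≤ N := fun v => by
    by_cases hv : InPi r A θ v
    · haveI := Fact.mk hv.prime
      obtain ⟨M, hM, hvM⟩ := hv
      haveI := Fact.mk hvM.1
      obtain ⟨k, hk⟩ := (pCoreOf_isPGroup v M).exists_card_eq
      have hk0 : k ≠ 0 := fun e => hvM.2 (card_eq_one.mp (by rw [hk, e, pow_zero]))
      obtain ⟨K, hK, hKv, hKle⟩ := h.exists_coprime_closure hM.mem
        ((hk ▸ dvd_pow_self v hk0).trans (card_dvd_of_le (pCoreOf_le v M)))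
      haveI := h.fact
      obtain ⟨N, hN, hKN⟩ := h.exists_node
        (Signalizer.member_sup h.elem hK.mem h.core_mem hK.le_normalizer_op) le_sup_right
      exact ⟨N, fun _ => ⟨hN, fun V hV hVd => (hKle V hV hVd).trans (le_sup_left.trans hKN)⟩⟩
    · exact ⟨⊥, fun h1 => absurd h1 hv⟩
  choose L hL using this
  exact ⟨L, hp, fun v hv => (hL v hv).1, fun v hv => (hL v hv).2, h3⟩

namespace Family

variable {L : ℕ → Subgroup G} (h : Minimal r A θ) (F : Family r A θ L)
include h F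

lemma pCore_le {K : Subgroup G} (hK : IsXA r A θ K) {v q : ℕ} (hv : InPi r A θ v) (hq : q.Prime)
    (hne : q ≠ v) : Cfsg.pCoreOf q K ≤ L v :=
  haveI := Fact.mk hq
  F.le v hv _ (hK.pCoreOf q) (not_dvd_of_isPGroup hq hv.prime hne (pCoreOf_isPGroup q K))

lemma wCore_le {v q : ℕ} (hv : InPi r A θ v) (hq : q.Prime) (hne : q ≠ v) :
    wCore r q A θ ≤ L v :=
  haveI := Fact.mk hq
  F.le v hv _ (h.wCore_isXA q) (not_dvd_of_isPGroup hq hv.prime hne (h.wCore_isPGroup q))

lemma inPi_of_inFit {K : Subgroup G} (hK : IsNode r A θ K) {q : ℕ} (hq : InFit q K) :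
    InPi r A θ q :=
  ⟨K, hK, hq⟩

lemma fit_le_of_missing {K : Subgroup G} (hK : IsNode r A θ K) {s : ℕ} (hs : InPi r A θ s)
    (hnot : ¬ InFit s K) : fitOf K ≤ L s :=
  fitOf_le_of_inFit fun q hq => F.pCore_le h hK.isXA hs hq.1 fun e => hnot (e ▸ hq)

/-- No node contains every `W_q`. -/
lemma exists_wCore_not_le {K : Subgroup G} (hK : IsNode r A θ K) :
    ∃ q, InPi r A θ q ∧ ¬ wCore r q A θ ≤ K := by
  by_contra hc
  push Not at hc
  obtain ⟨N, hN, hnot⟩ := h.exists_fit_not_le F.pure hK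
  refine hnot (fitOf_le_of_inFit fun q hq => ?_)
  haveI := Fact.mk hq.1
  exact (h.pCoreOf_le_wCore hN.isXA).trans (hc q ⟨N, hN, hq⟩)

lemma wCore_not_le_self {v : ℕ} (hv : InPi r A θ v) : ¬ wCore r v A θ ≤ L v := by
  intro hle
  obtain ⟨q, hq, hnot⟩ := F.exists_wCore_not_le h (F.node v hv)
  by_cases hqv : q = v
  · exact hnot (hqv ▸ hle)
  · exact hnot (F.wCore_le h hv hq.prime hqv)

lemma ne_of_ne {a b : ℕ} (ha : InPi r A θ a) (hb : InPi r A θ b) (hne : a ≠ b) : L a ≠ L b :=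
  fun e => F.wCore_not_le_self h ha (e ▸ F.wCore_le h hb ha.prime hne)

end Family

end Cfsg.Agent.SolvableSignalizer
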